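import Cfsg.Agent.Lib.Gold1169.Three.Split
import Cfsg.Agent.Lib.Gold1169.Big

/-!
Rank three: `V` centralises every moved component at the involutions of `A ⊔ V`, and the family `{A, V}`
ends the case.
-/

set_option autoImplicit false
set_option linter.style.haveILetI false
set_option linter.unusedSectionVars false

namespace Cfsg.Agent.Gold1169

open Subgroup
open Cfsg.Agent.Walter4 (cen cenS ocen cor XB pre CA Good mem_pre cor_zpowers cenS_zpowers pre_le)
open Cfsg.Agent.OddDown.CoreSep (q im mem_im)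
open scoped commutatorElement

universe u

attribute [local instance] FittingCores.pPrimeCore_normal

variable {G : Type u} [Group G] [Finite G]

namespace Cfg3

variable {S : Sylow 2 G} {A : Subgroup G} (hT : Cfg3 S A)
include hT

/-- An element of `A` agreeing on a moved component at `x ∈ uni` with an element fixing every component at `A`
is trivial. -/
theorem trick {x : G} (hx : Loc A (zpowers x)) (hxu : x ∈ uni A) {J : Subgroup (XB (zpowers x))}
    (hJ : Moved A (zpowers x) J) {u ρ : G} (hu : u ∈ A) (hρ : ρ ∈ uni A) (hρx : ρ ∈ cenS (zpowers x))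
    (h : ρ * u ∈ pre (zpowers x) (centralizer (J : Set (XB (zpowers x))))) : u = 1 := by
  have hxC := (mem_uni.1 hxu).1
  have key : ∀ a ∈ A, a ≠ 1 → u ∈ zpowers a := by
    intro a ha ha1
    obtain ⟨L, hLm⟩ := hT.exists_moved ha ha1
    have hBa := hT.set.loc_zpowers ha ha1
    set B' := zpowers x ⊔ zpowers a with hB'
    have hxa : Commute x a := (mem_centralizer_iff.1 hxC a ha).symm
    have hxN : zpowers x ≤ normalizer (zpowers a : Set G) := zpowers_le.2
      (centralizer_le_normalizer _ (mem_centralizer_iff.2 fun y hy => by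
        obtain ⟨i, rfl⟩ := mem_zpowers_iff.1 hy
        exact (hxa.zpow_right i).eq.symm))
    have hB'l : Loc A B' := ⟨IsPGroup.to_sup_of_normal_right' hx.1 hBa.1 hxN,
      fun e => ha1 (mem_bot.1 (e ▸ mem_sup_right (mem_zpowers a))), sup_le hx.2.2 hBa.2.2⟩
    have hfixL : B' ≤ pre (zpowers a) (centralizer (L : Set (XB (zpowers a)))) :=
      sup_le (zpowers_le.2 ((hT.mem_fix1' ha ha1 hLm).1 ((mem_uni.1 hxu).2 a ha ha1)).2)
        ((le_CA hBa (zpowers_le.2 ha) L).trans inf_le_right)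
    obtain ⟨L', hL', hCA, -, hsub⟩ := hT.loc.lift (zpowers a) B' hBa hB'l le_sup_right L hLm hfixL
    obtain ⟨U, t, ht⟩ := hT.loc.torus _ hBa L hLm
    rw [← (hT.torus_at ha ha1 hLm ht).2.1, ← hCA]
    obtain ⟨J', hJ', -, hsubJ⟩ := hT.loc.pump (zpowers x) B' hx hB'l le_sup_left (sup_le
      (zpowers_le.2 (mem_cenS_zpowers.2 rfl)) (zpowers_le.2 (mem_cenS_zpowers.2 hxa.eq.symm))) L' hL'
    rw [hT.unique hx hJ' hJ] at hsubJ
    have hρC : ρ ∈ cenS B' := by
      refine mem_centralizer_iff.2 fun y hy => ?_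
      have hle : B' ≤ centralizer ({ρ} : Set G) := sup_le
        (zpowers_le.2 (mem_centralizer_singleton_iff.2 (mem_cenS_zpowers.1 hρx).symm))
        (zpowers_le.2 (mem_centralizer_singleton_iff.2 (mem_centralizer_iff.1 (mem_uni.1 hρ).1 a ha)))
      exact mem_centralizer_singleton_iff.1 (hle hy)
    have huC : u ∈ cenS B' := hB'l.le_cen hu
    have h1 : ρ ∈ pre B' (centralizer (L' : Set (XB B'))) :=
      fix_down le_sup_right (cor_normalizes hT.set.ea hT.loc hBa hB'l le_sup_right hLm) hsub hρC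
        ((hT.mem_fix1' ha ha1 hLm).1 ((mem_uni.1 hρ).2 a ha ha1)).2
    have h2 : ρ * u ∈ pre B' (centralizer (L' : Set (XB B'))) :=
      fix_down le_sup_left (cor_normalizes hT.set.ea hT.loc hx hB'l le_sup_left hJ) hsubJ
        (mul_mem hρC huC) h
    have h3 := mul_mem (inv_mem h1) h2
    rw [inv_mul_cancel_left] at h3
    exact ⟨hu, h3⟩
  obtain ⟨a, ha, ha1, -⟩ := hT.exists_ne 1
  obtain ⟨b, hb, hb1, hba⟩ := hT.exists_ne a
  exact hT.eq_one_of_mem_two ha hb hba.symm (key a ha ha1) (key b hb hb1)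

/-- An element fixing every component at `A` and centralising `x` fixes a moved component at `x ∈ uni` whose
system is trivial. -/
theorem fix_at_uni {x : G} (hx : Loc A (zpowers x)) (hxu : x ∈ uni A) {J : Subgroup (XB (zpowers x))}
    (hJ : Moved A (zpowers x) J) (hCA : CA A (zpowers x) J = ⊥) {v : G} (hv : v ∈ uni A)
    (hvx : v ∈ cenS (zpowers x)) (hv2 : v * v = 1) :
    v ∈ pre (zpowers x) (centralizer (J : Set (XB (zpowers x)))) := by
  classical
  haveI : Fact (Nat.Prime 2) := ⟨Nat.prime_two⟩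
  haveI := hJ.1.2.1
  obtain ⟨U, h, ht⟩ := hT.loc.torus _ hx J hJ
  have hUA : U = A := by rw [← ht.sup, hCA, sup_bot_eq]
  obtain ⟨Q, hQ⟩ := hT.set.exists_sylow hx
  obtain ⟨T, hTe, -, hZ2, hinv, -⟩ := hT.set.kindL hx hJ ht Q hQ
  set Qg := (Q : Subgroup ↥(cenS (zpowers x))).map (cenS (zpowers x)).subtype with hQg
  have hQ2 : IsPGroup 2 Qg := Q.2.map _
  have hQC : Qg ≤ cenS (zpowers x) := map_subtype_le _
  have hAC := hx.le_cen
  have hdec : ∀ t ∈ (T : Subgroup ↥J), ∃ u, ∃ hu : u ∈ cenS (zpowers x), u ∈ A ∧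
      ∃ z ∈ center ↥J, (t : XB (zpowers x)) = q (cenS (zpowers x)) ⟨u, hu⟩ * (z : ↥J) := by
    intro t ht'
    rw [hTe, mem_subgroupOf] at ht'
    obtain ⟨⟨y, hyC⟩, hy, hyt⟩ := ht'
    obtain ⟨hyA, w, hwA, hyw⟩ := hT.split' hQ2 hQ hy
    set ρ := y * w with hρdef
    have hρQ : ρ ∈ Qg := mul_mem hy (hQ hwA)
    have hwJ : q (cenS (zpowers x)) ⟨w, hAC hwA⟩ ∈ J := by
      obtain ⟨_, h'⟩ := mem_pre.1 (ht.inU (hUA.symm ▸ hwA : w ∈ U))
      exact h'
    have hρJ : q (cenS (zpowers x)) ⟨ρ, hQC hρQ⟩ ∈ J := by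
      show q (cenS (zpowers x)) (⟨y, hyC⟩ * ⟨w, hAC hwA⟩) ∈ J
      rw [map_mul, hyt]
      exact mul_mem t.2 hwJ
    set r : ↥J := ⟨_, hρJ⟩ with hr
    have hrZ : r ∈ center ↥J := by
      by_contra hrZ
      have hrn : ∃ m : ℕ, r ^ 2 ^ m ∈ center ↥J := by
        obtain ⟨k, hk⟩ := hQ2 ⟨ρ, hρQ⟩
        refine ⟨k, ?_⟩
        have e : r ^ 2 ^ k = 1 := Subtype.ext (by
          show q (cenS (zpowers x)) ⟨ρ, hQC hρQ⟩ ^ 2 ^ k = 1
          rw [← map_pow, ← map_one (q (cenS (zpowers x)))]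
          exact congrArg _ (Subtype.ext (show ρ ^ 2 ^ k = 1 from congrArg Subtype.val hk)))
        rw [e]
        exact one_mem _
      obtain ⟨m, hm⟩ : ∃ m, Nat.find hrn = m + 1 := ⟨Nat.find hrn - 1, by
        have : Nat.find hrn ≠ 0 := fun e => hrZ (by
          have := Nat.find_spec hrn
          rwa [e, pow_zero, pow_one] at this)
        omega⟩
      have hns : r ^ 2 ^ m ∉ center ↥J := Nat.find_min hrn (by omega)
      have hsq : r ^ 2 ^ m * r ^ 2 ^ m ∈ center ↥J := by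
        have := Nat.find_spec hrn
        rwa [hm, pow_succ, pow_mul, pow_two] at this
      have hrT : r ∈ (T : Subgroup ↥J) := by
        rw [hTe, mem_subgroupOf]
        exact mem_im hρQ _
      obtain ⟨u, huC, hu, z, hz, e⟩ := hinv _ (pow_mem hrT _) hsq
      have huA : u ∈ A := ht.le hu
      set ρ' := ρ ^ 2 ^ m with hρ'
      have hρ'C : ρ' ∈ cenS (zpowers x) := pow_mem (hQC hρQ) _
      have hρ'q : q (cenS (zpowers x)) ⟨ρ', hρ'C⟩ = ((r ^ 2 ^ m : ↥J) : XB (zpowers x)) := by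
        rw [SubmonoidClass.coe_pow]
        show q (cenS (zpowers x)) ⟨ρ', hρ'C⟩ = q (cenS (zpowers x)) ⟨ρ, hQC hρQ⟩ ^ 2 ^ m
        rw [← map_pow]
        rfl
      obtain ⟨_, huJ⟩ := mem_pre.1 (ht.inU hu)
      have hu1 : u = 1 := by
        refine hT.trick hx hxu hJ huA (pow_mem hyw _ : ρ' ∈ uni A) hρ'C
          (mem_pre.2 ⟨mul_mem hρ'C huC, mem_centralizer_iff.2 fun l hl => ?_⟩)
        show l * q (cenS (zpowers x)) (⟨ρ', hρ'C⟩ * ⟨u, huC⟩) =
          q (cenS (zpowers x)) (⟨ρ', hρ'C⟩ * ⟨u, huC⟩) * l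
        have huu : q (cenS (zpowers x)) ⟨u, huC⟩ * q (cenS (zpowers x)) ⟨u, huC⟩ = 1 := by
          rw [← map_mul, show (⟨u, huC⟩ : cenS (zpowers x)) * ⟨u, huC⟩ = 1 from Subtype.ext (hT.set.sq huA),
            map_one]
        have hzc : ∀ l ∈ J, l * (z : XB (zpowers x)) = z * l := fun l hl =>
          congrArg Subtype.val (mem_center_iff.1 hz ⟨l, hl⟩)
        have e2 : q (cenS (zpowers x)) ⟨ρ', hρ'C⟩ * q (cenS (zpowers x)) ⟨u, huC⟩ = (z : XB (zpowers x)) := by
          rw [hρ'q, e]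
          calc q (cenS (zpowers x)) ⟨u, huC⟩ * (z : XB (zpowers x)) * q (cenS (zpowers x)) ⟨u, huC⟩
              = q (cenS (zpowers x)) ⟨u, huC⟩ * q (cenS (zpowers x)) ⟨u, huC⟩ * (z : XB (zpowers x)) := by
                rw [mul_assoc, ← hzc _ huJ, ← mul_assoc]
            _ = _ := by rw [huu, one_mul]
        rw [map_mul, e2]
        exact hzc l hl
      subst hu1
      refine hns ?_
      rw [show r ^ 2 ^ m = z from Subtype.ext (by
        rw [e, show (⟨1, huC⟩ : cenS (zpowers x)) = 1 from rfl, map_one, one_mul])]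
      exact hz
    refine ⟨w, hAC hwA, hwA, r, hrZ, ?_⟩
    have hc : ⟨_, hwJ⟩ * r = r * ⟨_, hwJ⟩ := mem_center_iff.1 hrZ ⟨_, hwJ⟩
    have hc' : q (cenS (zpowers x)) ⟨w, hAC hwA⟩ * q (cenS (zpowers x)) ⟨ρ, hQC hρQ⟩ =
      q (cenS (zpowers x)) ⟨ρ, hQC hρQ⟩ * q (cenS (zpowers x)) ⟨w, hAC hwA⟩ := congrArg Subtype.val hc
    show (t : XB (zpowers x)) = q (cenS (zpowers x)) ⟨w, hAC hwA⟩ * q (cenS (zpowers x)) ⟨ρ, hQC hρQ⟩
    rw [hc', ← hyt, ← map_mul]
    refine congrArg _ (Subtype.ext ?_)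
    show y = y * w * w
    rw [mul_assoc, hT.set.sq hwA, mul_one]
  have hqA : ∀ u ∈ A, ∀ w ∈ A, ∀ hu : u ∈ cenS (zpowers x), ∀ hw : w ∈ cenS (zpowers x),
      q (cenS (zpowers x)) ⟨u, hu⟩ * q (cenS (zpowers x)) ⟨w, hw⟩ =
        q (cenS (zpowers x)) ⟨w, hw⟩ * q (cenS (zpowers x)) ⟨u, hu⟩ := fun u hu w hw huC hwC => by
    rw [← map_mul, ← map_mul]
    exact congrArg _ (Subtype.ext (hT.set.comm hu hw))
  have hab : ∀ t ∈ (T : Subgroup ↥J), ∀ t' ∈ (T : Subgroup ↥J), t * t' = t' * t := by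
    intro t ht1 t' ht2
    obtain ⟨u, huC, hu, z, hz, e⟩ := hdec t ht1
    obtain ⟨w, hwC, hw, z', hz', e'⟩ := hdec t' ht2
    have huJ : q (cenS (zpowers x)) ⟨u, huC⟩ ∈ J := by
      rw [eq_mul_inv_of_mul_eq e.symm]; exact mul_mem t.2 (inv_mem z.2)
    have hwJ : q (cenS (zpowers x)) ⟨w, hwC⟩ ∈ J := by
      rw [eq_mul_inv_of_mul_eq e'.symm]; exact mul_mem t'.2 (inv_mem z'.2)
    have c1 : Commute (⟨_, huJ⟩ : ↥J) ⟨_, hwJ⟩ := Subtype.ext (hqA u hu w hw huC hwC)
    rw [show t = ⟨_, huJ⟩ * z from Subtype.ext e, show t' = ⟨_, hwJ⟩ * z' from Subtype.ext e']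
    exact ((c1.mul_right (mem_center_iff.1 hz' _)).mul_left
      ((mem_center_iff.1 hz _ : Commute _ z).symm)).eq
  have hZ : center ↥J = ⊥ := center_eq_bot_of_abelian hZ2 T hab
  have hTA : ∀ t ∈ (T : Subgroup ↥J), ∃ u, ∃ hu : u ∈ cenS (zpowers x), u ∈ A ∧
      (t : XB (zpowers x)) = q (cenS (zpowers x)) ⟨u, hu⟩ := fun t ht' => by
    obtain ⟨u, huC, hu, z, hz, e⟩ := hdec t ht'
    rw [hZ, mem_bot] at hz
    exact ⟨u, huC, hu, by rw [e, hz, OneMemClass.coe_one, mul_one]⟩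
  have hvA := (mem_uni.1 hv).1
  have hvN : v ∈ normalizer (A : Set G) := centralizer_le_normalizer _ hvA
  obtain ⟨k, hkT, hk⟩ := inner_of_abelian (Components.pPrimeCore_quotient (p := 2) ↥(cenS (zpowers x))) hJ.1 hZ T
    hab (hT.normalizes hx hJ hvx hvN) (n := 1) (by
      rw [pow_one, pow_two, ← map_mul, show (⟨v, hvx⟩ : cenS (zpowers x)) * ⟨v, hvx⟩ = 1 from Subtype.ext hv2,
        map_one]) fun t ht' => by
      obtain ⟨u, huC, hu, e⟩ := hTA t ht'
      rw [e, ← map_mul, ← map_mul]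
      exact congrArg _ (Subtype.ext (mem_centralizer_iff.1 hvA u hu).symm)
  obtain ⟨u, huC, hu, e⟩ := hTA k hkT
  have hw : v * u ∈ pre (zpowers x) (centralizer (J : Set (XB (zpowers x)))) := by
    refine mem_pre.2 ⟨mul_mem hvx huC, mem_centralizer_iff.2 fun l hl => ?_⟩
    show l * q (cenS (zpowers x)) (⟨v, hvx⟩ * ⟨u, huC⟩) = q (cenS (zpowers x)) (⟨v, hvx⟩ * ⟨u, huC⟩) * l
    have huu : q (cenS (zpowers x)) ⟨u, huC⟩ * q (cenS (zpowers x)) ⟨u, huC⟩ = 1 := by
      rw [← map_mul, show (⟨u, huC⟩ : cenS (zpowers x)) * ⟨u, huC⟩ = 1 from Subtype.ext (hT.set.sq hu), map_one]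
    have h1 := hk l hl
    rw [e] at h1
    rw [map_mul]
    set β := q (cenS (zpowers x)) ⟨v, hvx⟩
    set γ := q (cenS (zpowers x)) ⟨u, huC⟩
    have hγ : γ⁻¹ = γ := inv_eq_of_mul_eq_one_right huu
    have hl' : γ * l * γ⁻¹ ∈ J := by
      rw [← h1]
      exact (mem_normalizer_iff.1 (hT.normalizes hx hJ hvx hvN) l).1 hl
    have h2 := hk _ hl'
    rw [e] at h2
    have h3 : β * (γ * l * γ⁻¹) * β⁻¹ = l := by
      rw [h2, hγ]
      calc γ * (γ * l * γ) * γ = (γ * γ) * l * (γ * γ) := by group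
        _ = l := by rw [huu, one_mul, mul_one]
    calc l * (β * γ) = β * (γ * l * γ⁻¹) * β⁻¹ * (β * γ) := by rw [h3]
      _ = β * γ * l := by group
  have hu1 := hT.trick hx hxu hJ hu hv hvx hw
  rwa [hu1, mul_one] at hw

/-- `V` fixes every moved component at an element of `A ⊔ V`. -/
theorem fixes_moved {V : Subgroup G} (hVu : V ≤ uni A) (hV2 : ∀ v ∈ V, v * v = 1)
    (hVc : ∀ v ∈ V, ∀ w ∈ V, v * w = w * v) {x a₀ r₀ : G} (ha₀ : a₀ ∈ A) (hr₀ : r₀ ∈ V) (he : x = a₀ * r₀)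
    (hx : Loc A (zpowers x)) {L : Subgroup (XB (zpowers x))} (hLm : Moved A (zpowers x) L) {v : G} (hv : v ∈ V) :
    v ∈ pre (zpowers x) (centralizer (L : Set (XB (zpowers x)))) := by
  haveI : Fact (Nat.Prime 2) := ⟨Nat.prime_two⟩
  have hr₀C := (mem_uni.1 (hVu hr₀)).1
  have hvC := (mem_uni.1 (hVu hv)).1
  have hvx : v ∈ cenS (zpowers x) := mem_cenS_zpowers.2 (by
    rw [he, ← mul_assoc, ← mem_centralizer_iff.1 hvC a₀ ha₀, mul_assoc, hVc v hv r₀ hr₀, ← mul_assoc])
  by_cases hCA : CA A (zpowers x) L = ⊥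
  · obtain ⟨U, h, ht⟩ := hT.loc.torus _ hx L hLm
    have hUA : U = A := by rw [← ht.sup, hCA, sup_bot_eq]
    have ha₀1 : a₀ = 1 := by
      by_contra ha₀1
      have hhx : Commute h x := mem_cenS_zpowers.1 (pre_le ht.mem)
      have key : ∀ n : G, n ∈ normalizer (A : Set G) → n * x = x * n → n * a₀ * n⁻¹ = a₀ := by
        intro n hn hnx
        have h1 : n * a₀ * n⁻¹ * (n * r₀ * n⁻¹) = a₀ * r₀ := by
          rw [conj_mul, ← he, hnx, mul_inv_cancel_right]
        have h2 : a₀⁻¹ * (n * a₀ * n⁻¹) = r₀ * (n * r₀ * n⁻¹)⁻¹ := by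
          rw [eq_mul_inv_iff_mul_eq, mul_assoc, h1, inv_mul_cancel_left]
        have h3 : a₀⁻¹ * (n * a₀ * n⁻¹) = 1 := hT.eq_one_of_uni
          (mul_mem (inv_mem ha₀) ((hT.set.conj_mem_iff hn).1 ha₀))
          (h2 ▸ mul_mem (hVu hr₀) (inv_mem (hT.uni_conj hn (hVu hr₀))))
        exact (inv_mul_eq_one.1 h3).symm
      obtain ⟨c, hc, hc1, hca⟩ := hT.exists_ne a₀
      obtain ⟨i, hi⟩ := ht.trans a₀ (hUA.symm ▸ ha₀) ha₀1 c (hUA.symm ▸ hc) hc1
      exact hca (hi ▸ key _ (pow_mem ht.norm i) (hhx.pow_left i).eq)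
    rw [ha₀1, one_mul] at he
    exact hT.fix_at_uni hx (he.symm ▸ hVu hr₀) hLm hCA (hVu hv) hvx (hV2 v hv)
  obtain ⟨a, haCA, ha1⟩ := (CA A (zpowers x) L).bot_or_exists_ne_one.resolve_left hCA
  have ha : a ∈ A := haCA.1
  have hBa := hT.set.loc_zpowers ha ha1
  obtain ⟨La, hLa⟩ := hT.exists_moved ha ha1
  set B' := zpowers x ⊔ zpowers a with hB'
  have hxC : x ∈ cenS A := by rw [he]; exact mul_mem (hT.set.le_cenS le_rfl ha₀) hr₀C
  have hxa : Commute x a := (mem_centralizer_iff.1 hxC a ha).symm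
  have hxN : zpowers x ≤ normalizer (zpowers a : Set G) := zpowers_le.2
    (centralizer_le_normalizer _ (mem_centralizer_iff.2 fun y hy => by
      obtain ⟨i, rfl⟩ := mem_zpowers_iff.1 hy
      exact (hxa.zpow_right i).eq.symm))
  have hB'l : Loc A B' := ⟨IsPGroup.to_sup_of_normal_right' hx.1 hBa.1 hxN,
    fun e => ha1 (mem_bot.1 (e ▸ mem_sup_right (mem_zpowers a))), sup_le hx.2.2 hBa.2.2⟩
  have hxfix : zpowers x ≤ pre (zpowers x) (centralizer (L : Set (XB (zpowers x)))) := fun y hy => by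
    refine mem_pre_centralizer (le_centralizer (zpowers x) hy) fun z hz => ?_
    rw [mem_centralizer_iff.1 (pre_le hz) y hy, mul_inv_cancel_right, mul_inv_cancel]
    exact one_mem _
  obtain ⟨L', hL', -, hsub, -⟩ := hT.loc.lift (zpowers x) B' hx hB'l le_sup_left L hLm
    (sup_le hxfix (zpowers_le.2 haCA.2))
  obtain ⟨M, hM, -, hsubM⟩ := hT.loc.pump (zpowers a) B' hBa hB'l le_sup_right (sup_le
    (zpowers_le.2 (mem_cenS_zpowers.2 hxa.eq)) (zpowers_le.2 (mem_cenS_zpowers.2 rfl))) L' hL'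
  rw [hT.unique hBa hM hLa] at hsubM
  have hvB : v ∈ cenS B' := by
    refine mem_centralizer_iff.2 fun y hy => ?_
    have hle : B' ≤ centralizer ({v} : Set G) := sup_le
      (zpowers_le.2 (mem_centralizer_singleton_iff.2 (mem_cenS_zpowers.1 hvx).symm))
      (zpowers_le.2 (mem_centralizer_singleton_iff.2 (mem_centralizer_iff.1 hvC a ha)))
    exact mem_centralizer_singleton_iff.1 (hle hy)
  exact fix_transfer le_sup_left hLm.1 hsub (fix_down le_sup_right
    (cor_normalizes hT.set.ea hT.loc hBa hB'l le_sup_right hLa) hsubM hvB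
    ((hT.mem_fix1' ha ha1 hLa).1 ((mem_uni.1 (hVu hv)).2 a ha ha1)).2)

/-- The case of rank three. -/
theorem false_of_fam (hF : FamStmt.{u}) : False := by
  haveI : Fact (Nat.Prime 2) := ⟨Nat.prime_two⟩
  haveI := hT.set.simple
  obtain ⟨V, hVS, hVu, hV2, hVc, hV4⟩ := hT.exists_four
  have hAc : A ≤ cenS V := fun a ha => mem_centralizer_iff.2 fun v hv =>
    (mem_centralizer_iff.1 (hT.central (hVS hv)) a ha).symm
  set E := A ⊔ V with hE
  have hdec : ∀ x ∈ E, ∃ a ∈ A, ∃ r ∈ V, x = a * r := fun x hx => by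
    rw [hE, sup_comm] at hx
    obtain ⟨r, hr, a, ha, e⟩ := (SolvBasic.mem_sup_iff_of_le_normalizer
      (hAc.trans (centralizer_le_normalizer _))).1 hx
    exact ⟨a, ha, r, hr, by rw [e, mem_centralizer_iff.1 (hAc ha) r hr]⟩
  have hcomm : ∀ x ∈ E, ∀ y ∈ E, x * y = y * x := by
    intro x hx y hy
    obtain ⟨a, ha, r, hr, rfl⟩ := hdec x hx
    obtain ⟨b, hb, w, hw, rfl⟩ := hdec y hy
    have h1 : r * b = b * r := mem_centralizer_iff.1 (hAc hb) r hr
    have h2 : w * a = a * w := mem_centralizer_iff.1 (hAc ha) w hw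
    calc a * r * (b * w) = a * (r * b) * w := by group
      _ = (a * b) * (r * w) := by rw [h1]; group
      _ = b * (a * w) * r := by rw [hT.set.comm ha hb, hVc r hr w hw]; group
      _ = b * w * (a * r) := by rw [← h2]; group
  have hsq : ∀ x ∈ E, x * x = 1 := by
    intro x hx
    obtain ⟨a, ha, r, hr, rfl⟩ := hdec x hx
    calc a * r * (a * r) = a * (r * a) * r := by group
      _ = (a * a) * (r * r) := by rw [mem_centralizer_iff.1 (hAc ha) r hr]; group
      _ = 1 := by rw [hT.set.sq ha, hV2 r hr, one_mul]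
  have hEea : Cfsg.IsElementaryAbelian 2 E :=
    ⟨⟨⟨fun x y => Subtype.ext (hcomm x x.2 y y.2)⟩⟩, fun x hx => by rw [pow_two]; exact hsq x hx⟩
  have hES : E ≤ (S : Subgroup G) := sup_le hT.set.le hVS
  have hloc : ∀ x ∈ E, x ≠ 1 → Loc A (zpowers x) := fun x hx hx1 =>
    ⟨S.2.to_le (zpowers_le.2 (hES hx)), fun e => hx1 (zpowers_eq_bot.1 e),
      zpowers_le.2 (hT.central (hES hx))⟩
  have hfix : ∀ x ∈ E, x ≠ 1 → ∀ L : Subgroup (XB (zpowers x)), Cfsg.IsComponent L →
      Fixes A L ∨ Fixes V L := by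
    intro x hx hx1 L hL
    by_cases hM : Moved A (zpowers x) L
    · right
      obtain ⟨a₀, ha₀, r₀, hr₀, he⟩ := hdec x hx
      exact fixes_of_le fun v hv => hT.fixes_moved hVu hV2 hVc ha₀ hr₀ he (hloc x hx hx1) hM hv
    · exact Or.inl (fixes_of_not_moved hL hM le_rfl)
  set Ps : Set (Subgroup G) := {A, V} with hPs
  have hfam : Fam E Ps :=
    { ea := hEea
      big := hT.card.ge.trans (card_le_of_le le_sup_left)
      le := by
        intro P hP
        rcases hP with h | h <;> rw [h]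
        exacts [le_sup_left, le_sup_right]
      four := by
        intro P hP
        rcases hP with h | h <;> rw [h]
        exacts [hT.set.four, hV4]
      pair := by
        intro P hP e he he1 L hL
        rcases hP with rfl | hP
        · refine (hfix e (mem_sup_left he) he1 L hL).imp_right fun h => ⟨V, le_sup_right, fun x hx => ?_, h⟩
          obtain ⟨a, ha, r, hr, e⟩ := hdec x hx
          exact ⟨a, ha, r, hr, e⟩
        · rw [Set.mem_singleton_iff] at hP
          subst hP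
          refine (hfix e (mem_sup_right he) he1 L hL).symm.imp_right fun h => ⟨A, le_sup_left, fun x hx => ?_, h⟩
          obtain ⟨a, ha, r, hr, e⟩ := hdec x hx
          exact ⟨r, hr, a, ha, by rw [e, mem_centralizer_iff.1 (hAc ha) r hr]⟩
      cov := fun x hx hx1 L hL => Or.inl ((hfix x hx hx1 L hL).elim (fun h => ⟨A, Or.inl rfl, h⟩)
        fun h => ⟨V, Or.inr rfl, h⟩) }
  obtain ⟨W, hW⟩ := hF G E Ps hfam
  obtain ⟨z, hzV, hz1⟩ := V.bot_or_exists_ne_one.resolve_left fun h => by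
    rw [h, card_bot] at hV4; omega
  have hzC : z ∈ cenS A := hT.central (hVS hzV)
  -- the layer at `a` lies in the core and the centraliser of `⟨z, a⟩`
  have hlay : ∀ a ∈ A, a ≠ 1 → ∀ M : Subgroup G, ocen a ≤ M → cenS (zpowers z ⊔ zpowers a) ≤ M →
      layA A (zpowers a) ≤ M := by
    intro a ha ha1 M hcore hcen
    refine iSup_le fun L => ?_
    have hBa := hT.set.loc_zpowers ha ha1
    set B' := zpowers z ⊔ zpowers a with hB'
    have hB'S : B' ≤ (S : Subgroup G) := sup_le (zpowers_le.2 (hVS hzV)) (zpowers_le.2 (hT.set.le ha))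
    have hB'l : Loc A B' := ⟨S.2.to_le hB'S,
      fun e => ha1 (mem_bot.1 (e ▸ mem_sup_right (mem_zpowers a))), hB'S.trans hT.central⟩
    obtain ⟨L', -, -, hsub, -⟩ := hT.loc.lift (zpowers a) B' hBa hB'l le_sup_right L.1 L.2
      (sup_le (zpowers_le.2 ((hT.mem_fix1' ha ha1 L.2).1 ((mem_uni.1 (hVu hzV)).2 a ha ha1)).2)
        ((le_CA hBa (zpowers_le.2 ha) L.1).trans inf_le_right))
    exact hsub.trans (sup_le (by rwa [cor_zpowers]) (pre_le.trans hcen))
  by_cases hW1 : W = ⊥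
  swap
  · have hWtop : W ≠ ⊤ := fun h => by
      have h2 := hW.odd
      rw [h, card_top] at h2
      have := orderOf_dvd_natCard z
      rw [orderOf_eq_prime (by rw [pow_two]; exact hV2 z hzV) hz1] at this
      exact (Nat.not_even_iff_odd.2 h2) (even_iff_two_dvd.2 this)
    refine hT.set.false_of_le hT.loc (M := normalizer (W : Set G))
      (fun h => hW1 (hT.set.eq_bot_of_normal (normalizer_eq_top_iff.1 h) hWtop))
      (fun a ha ha1 => hW.core_le a (mem_sup_left ha) ha1)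
      fun a ha ha1 => hlay a ha ha1 _ (hW.core_le a (mem_sup_left ha) ha1) fun k hk => ?_
    have hH : zpowers z ⊔ zpowers a ≤ E := sup_le (zpowers_le.2 (mem_sup_right hzV)) (zpowers_le.2 (mem_sup_left ha))
    refine hW.key _ hH ?_ k hk fun P hP => Or.inr fun h => ?_
    · have hne : zpowers z ≠ zpowers z ⊔ zpowers a := fun e => by
        have h1 : a ∈ zpowers z := e ▸ mem_sup_right (mem_zpowers a)
        obtain ⟨i, rfl⟩ := mem_zpowers_iff.1 h1
        exact ha1 (hT.eq_one_of_uni ha (zpow_mem (hVu hzV) i))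
      obtain ⟨j, hj⟩ := card_dvd_of_le (le_sup_left : zpowers z ≤ zpowers z ⊔ zpowers a)
      rw [Nat.card_zpowers, orderOf_eq_prime (by rw [pow_two]; exact hV2 z hzV) hz1] at hj
      rcases j with _ | _ | j
      · exact absurd (hj.trans (Nat.mul_zero 2)) Nat.card_pos.ne'
      · refine absurd (eq_of_le_of_card_ge le_sup_left ?_) hne
        rw [hj, Nat.card_zpowers, orderOf_eq_prime (by rw [pow_two]; exact hV2 z hzV) hz1]
      · omega
    · rcases hP with hP | hP <;> rw [hP] at h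
      · exact ha1 (mem_bot.1 (h ▸ mem_inf.2 ⟨mem_sup_right (mem_zpowers a), ha⟩))
      · exact hz1 (mem_bot.1 (h ▸ mem_inf.2 ⟨mem_sup_left (mem_zpowers z), hzV⟩))
  -- trivial functor: `V` centralises the cores
  have hocen : ∀ a ∈ A, a ≠ 1 → ocen a ≤ cen z := by
    intro a ha ha1
    have hnA := Walter4.le_normalizer_ocen hT.set.ea ha
    have hEN : E ≤ normalizer (ocen a : Set G) :=
      Walter4.le_normalizer_ocen hEea (mem_sup_left ha)
    intro y hy
    have hmem : ⁅y, z⁆ ∈ theta Ps a := by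
      have hyz : ⁅y, z⁆ ∈ ⁅ocen a, V⁆ := commutator_mem_commutator hy hzV
      have hO : ⁅y, z⁆ ∈ ocen a := CoprimeAct.commutator_le_left ((le_sup_right : V ≤ E).trans hEN) hyz
      refine mem_inf.2 ⟨hO, Subgroup.mem_iInf.2 fun P => ?_⟩
      rcases P.2 with hP | hP <;> rw [hP]
      · -- the core is `[O, A]` and its part centralising `A`
        have hsup : ocen a ≤ ⁅ocen a, A⁆ ⊔ (ocen a ⊓ cenS A) := by
          exact (CoprimeAct.commutator_sup_centralizer hnA
            (Walter4.ea_cop hT.set.ea le_rfl (Walter4.ocen_coprime a)) (Or.inl (Walter4.ea_solvable hT.set.ea le_rfl))).ge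
        refine (hsup.trans (sup_le le_sup_left (le_sup_of_le_right (_root_.le_inf inf_le_left ?_)))) hO
        exact ClosedAbelian.le_core inf_le_right
          ((_root_.le_inf ((centralizer_le (Set.singleton_subset_iff.2 ha)).trans
            (OddDown.CoreSep.core_props a).2.1) le_normalizer).trans inf_normalizer_le_normalizer_inf)
          (fun h2 => Nat.prime_two.not_dvd_one
            ((Walter4.ocen_coprime a) ▸ Nat.dvd_gcd (h2.trans (card_dvd_of_le inf_le_left)) dvd_rfl))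
      · exact mem_sup_left hyz
    rw [← hW.meet a (mem_sup_left ha) ha1, hW1, bot_inf_eq, mem_bot, commutatorElement_eq_one_iff_mul_comm] at hmem
    exact mem_centralizer_singleton_iff.2 hmem
  refine hT.set.false_of_le hT.loc (M := cen z) (hT.set.cen_ne_top hz1) hocen
    fun a ha ha1 => hlay a ha ha1 _ (hocen a ha ha1) ?_
  exact centralizer_le (Set.singleton_subset_iff.2 (mem_sup_left (mem_zpowers z)))

end Cfg3

/-- No configuration of rank three, from the functor of a family. -/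
theorem three_of (hF : FamStmt.{u}) : ThreeStmt.{u} :=
  fun _ _ _ _ _ hS hL h8 hmoved => Cfg3.false_of_fam ⟨hS, hL, h8, hmoved⟩ hF

end Cfsg.Agent.Gold1169
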