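import Cfsg.Agent.Lib.Gold1169.Three.Model
import Cfsg.Agent.Lib.Walter4.KindProof
import Cfsg.Agent.Lib.SEMain.Proof
import Cfsg.Agent.Lib.GoodInvol.BenderCard
import Cfsg.Agent.Lib.GateCons.CoverProof
import Cfsg.Agent.Lib.Components.PTerminalPerfect

/-!
The shape of a moved component: its involutions come from the torus, its centre is trivial, and with a torus
of order four it has a four-group as Sylow 2-subgroup or is `U₃(4)`.
-/

set_option autoImplicit false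
set_option linter.style.haveILetI false
set_option linter.unusedSectionVars false

namespace Cfsg.Agent.Gold1169

open Subgroup
open Cfsg.Agent.Walter4 (cen cenS ocen cor XB pre CA Good mem_pre pre_le)
open Cfsg.Agent.OddDown.CoreSep (q im mem_im)
open scoped commutatorElement

universe u

attribute [local instance] FittingCores.pPrimeCore_normal

/-- `U₃(4)`. -/
def UType (X : Type u) [Group X] : Prop :=
  ∃ (F : Type) (_ : Field F) (_ : Fintype F), Fintype.card F = (2 ^ 2) ^ 2 ∧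
    Nonempty (X ≃* Cfsg.PSU 3 F (2 ^ 2))

theorem UType.congr {X Y : Type u} [Group X] [Group Y] (e : X ≃* Y) : UType Y → UType X := by
  rintro ⟨F, _, _, hF, ⟨f⟩⟩
  exact ⟨F, inferInstance, inferInstance, hF, ⟨e.trans f⟩⟩

/-- A component of a group with trivial odd core has a 2-group as centre. -/
theorem center_two {H : Type u} [Group H] [Finite H] (hcore : Cfsg.pPrimeCore 2 H = ⊥) {L : Subgroup H}
    (hL : Cfsg.IsComponent L) : IsPGroup 2 (center ↥L) := by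
  haveI : Fact (Nat.Prime 2) := ⟨Nat.prime_two⟩
  intro z
  obtain ⟨k, m, hm, hkm⟩ := Nat.exists_eq_two_pow_mul_odd (orderOf_pos (z : ↥L)).ne'
  refine ⟨k, Subtype.ext ?_⟩
  set w := (z : ↥L) ^ 2 ^ k with hw
  show w = 1
  have hwc : w ∈ center ↥L := pow_mem z.2 _
  haveI : (zpowers w).Normal := ⟨fun x hx g => by
    obtain ⟨i, rfl⟩ := mem_zpowers_iff.1 hx
    rw [mem_center_iff.1 (zpow_mem hwc i) g, mul_inv_cancel_right]
    exact zpow_mem (mem_zpowers w) i⟩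
  have hle : (zpowers w).map L.subtype ≤ Cfsg.pPrimeCore 2 H := by
    refine Components.subnormal_le_pPrimeCore
      ((inferInstance : (zpowers w).Normal).isSubnormal.trans' hL.1) ?_
    rw [card_map_of_injective L.subtype_injective, Nat.card_zpowers, Nat.coprime_two_right]
    exact hm.of_dvd_nat (orderOf_dvd_of_pow_eq_one (by rw [hw, ← pow_mul, ← hkm, pow_orderOf_eq_one]))
  rw [hcore, le_bot_iff, map_eq_bot_iff_of_injective _ L.subtype_injective, zpowers_eq_bot] at hle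
  exact hle

/-- A quasisimple group with abelian Sylow 2-subgroup and a 2-group as centre has trivial centre. -/
theorem center_eq_bot_of_abelian {X : Type u} [Group X] [Finite X] [Group.IsPerfect X]
    (h2 : IsPGroup 2 (center X)) (T : Sylow 2 X)
    (hab : ∀ x ∈ (T : Subgroup X), ∀ y ∈ (T : Subgroup X), x * y = y * x) : center X = ⊥ := by
  haveI : Fact (Nat.Prime 2) := ⟨Nat.prime_two⟩
  haveI : IsMulCommutative ↥(T : Subgroup X) := ⟨⟨fun a b => Subtype.ext (hab a a.2 b b.2)⟩⟩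
  have hZT : center X ≤ (T : Subgroup X) :=
    le_sup_left.trans_eq (T.is_maximal' (IsPGroup.to_sup_of_normal_left h2 T.2) le_sup_right)
  refine (eq_bot_iff_forall _).2 fun z hz => PTerm.eq_one_of_transfer T.2 T.not_dvd_index (hZT hz)
    fun k g _ => ?_
  have hc : Commute g (z ^ k) := Commute.pow_right (mem_center_iff.1 hz g) k
  rw [mul_assoc, ← hc.eq, inv_mul_cancel_left]

/-- A quasisimple cover of `U₃(2^n)` with a 2-group as centre is trivial. -/
theorem center_eq_bot_psu {X : Type u} [Group X] [Finite X] [Group.IsPerfect X]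
    (h2 : IsPGroup 2 (center X)) {F : Type} [Field F] [Fintype F] {n : ℕ} (hn : 2 ≤ n)
    (hF : Fintype.card F = (2 ^ n) ^ 2) (e : (X ⧸ center X) ≃* Cfsg.PSU 3 F (2 ^ n)) : center X = ⊥ := by
  let X₀ : Type := {_i : Fin (Nat.card X) // True}
  let ε : X₀ ≃ X := (Equiv.subtypeUnivEquiv fun _ => trivial).trans (Finite.equivFin X).symm
  letI : Group X₀ := ε.group
  let f : X ≃* X₀ := ε.mulEquiv.symm
  let ξ : X₀ →* Cfsg.PSU 3 F (2 ^ n) :=
    (e.toMonoidHom.comp (QuotientGroup.mk' (center X))).comp f.symm.toMonoidHom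
  have hker : ξ.ker ≤ (center X).map f.toMonoidHom := fun y hy => by
    have h1 : e (QuotientGroup.mk' (center X) (f.symm y)) = 1 := hy
    rw [MulEquiv.map_eq_one_iff, QuotientGroup.mk'_apply, QuotientGroup.eq_one_iff] at h1
    exact ⟨_, h1, f.apply_symm_apply y⟩
  have h := GateCons.inter_eq_bot_psu ξ
    ((e.surjective.comp (QuotientGroup.mk'_surjective _)).comp f.symm.surjective)
    (fun y hy => by
      obtain ⟨c, hc, rfl⟩ := hker hy
      exact mem_center_iff.2 fun y => by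
        obtain ⟨x, rfl⟩ := f.surjective y
        show f x * f c = f c * f x
        rw [← map_mul, ← map_mul, mem_center_iff.1 hc x])
    ((h2.map f.toMonoidHom).to_le hker) hn hF (MulEquiv.refl _)
  refine (eq_bot_iff_forall _).2 fun z hz => f.injective ?_
  rw [map_one, ← mem_bot, ← h]
  refine mem_inf.2 ⟨?_, ?_⟩
  · show e (QuotientGroup.mk' (center X) (f.symm (f z))) = 1
    rw [MulEquiv.map_eq_one_iff, QuotientGroup.mk'_apply, QuotientGroup.eq_one_iff, f.symm_apply_apply]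
    exact hz
  · have h1 := mem_map_of_mem f.toMonoidHom
      (show z ∈ commutator X by rw [Group.IsPerfect.commutator_eq_top]; exact mem_top z)
    rw [commutator_def, map_commutator] at h1
    exact commutator_mono le_top le_top h1

/-- A simple group with a strongly embedded subgroup whose Sylow 2-subgroup `T` has exactly four solutions of
`x * x = 1` has a four-group as `T` or is `U₃(4)`. -/
theorem shape_se {K : Type u} [Group K] [Finite K] [IsSimpleGroup K] {H : Subgroup K}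
    (hH : Cfsg.IsStronglyEmbedded H) (T : Sylow 2 K)
    (h4 : {x : K | x ∈ (T : Subgroup K) ∧ x * x = 1}.ncard = 4) :
    (∀ x ∈ (T : Subgroup K), x * x = 1) ∨ UType K := by
  rcases SEMain.bender_of_simple SEMain.stmt hH with
    ⟨F, _, _, ⟨n, hn, hF⟩, ⟨e⟩⟩ | ⟨F, _, _, m, hm, hF, ⟨e⟩⟩ | ⟨F, _, _, n, hn, hF, ⟨e⟩⟩
  · left
    haveI : CharP F 2 := by
      haveI : Fact (Nat.Prime 2) := ⟨Nat.prime_two⟩
      exact charP_of_card_eq_prime_pow hF
    obtain ⟨g⟩ := SEMain.psl_equiv_sl (F := F)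
    obtain ⟨h1, h2⟩ := ((GoodInvol.params_sl_two hn hF).congr (e.trans g)).sylow T
    intro x hx
    have heq : {x : K | x ∈ (T : Subgroup K) ∧ x * x = 1} = ((T : Subgroup K) : Set K) :=
      Set.eq_of_subset_of_ncard_le (fun y hy => hy.1) (by
        rw [h2, ← Nat.card_coe_set_eq, SetLike.coe_sort_coe, h1, one_mul])
    exact (heq.ge hx).2
  · exfalso
    have hsz : Suzuki.SzField F m := ⟨hm, hF⟩
    obtain ⟨-, h2⟩ := ((GoodInvol.params_sz hsz).congr
      (e.trans (Suzuki.minorEquiv hsz).symm)).sylow T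
    rw [h4, show (4 : ℕ) = 2 ^ 2 by norm_num] at h2
    have := Nat.pow_right_injective le_rfl h2
    omega
  · right
    obtain ⟨-, h2⟩ := ((GoodInvol.params_psu hn hF).congr e).sylow T
    rw [h4, show (4 : ℕ) = 2 ^ 2 by norm_num] at h2
    obtain rfl := Nat.pow_right_injective le_rfl h2
    exact ⟨F, inferInstance, inferInstance, hF, ⟨e⟩⟩

variable {G : Type u} [Group G] [Finite G] {S : Sylow 2 G} {A : Subgroup G}

/-- The shape of a moved component with a Sylow 2-subgroup `T` from a Sylow subgroup `Q ⊇ A` of `C(B)`: the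
elements squaring into the centre come from the torus part, and with four of them modulo the centre `T` is a
four-group modulo the centre or the component is a cover of `U₃(4)`. -/
theorem Setup.kindL (hS : Setup S A) {B : Subgroup G} (hB : Loc A B) {L : Subgroup (XB B)}
    (hLm : Moved A B L) {U : Subgroup G} {h : G} (ht : Torus A B L U h) (Q : Sylow 2 ↥(cenS B))
    (hAQ : A ≤ (Q : Subgroup ↥(cenS B)).map (cenS B).subtype) :
    ∃ T : Sylow 2 ↥L,
      (T : Subgroup ↥L) = (im (cenS B) ((Q : Subgroup ↥(cenS B)).map (cenS B).subtype)).subgroupOf L ∧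
      center ↥L ≤ (T : Subgroup ↥L) ∧ IsPGroup 2 (center ↥L) ∧
      (∀ t ∈ (T : Subgroup ↥L), t * t ∈ center ↥L → ∃ u, ∃ hu : u ∈ cenS B, u ∈ U ∧
        ∃ z ∈ center ↥L, (t : XB B) = q (cenS B) ⟨u, hu⟩ * z) ∧
      (Nat.card U = 4 → (∀ t ∈ (T : Subgroup ↥L), t * t ∈ center ↥L) ∨ UType (↥L ⧸ center ↥L)) := by
  classical
  haveI : Fact (Nat.Prime 2) := ⟨Nat.prime_two⟩
  set Qg := (Q : Subgroup ↥(cenS B)).map (cenS B).subtype with hQg
  have hQ2 : IsPGroup 2 Qg := Q.2.map _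
  have hQB : Qg ≤ cenS B := map_subtype_le _
  obtain ⟨T₀, hT₀⟩ : ∃ T₀ : Sylow 2 (XB B), (T₀ : Subgroup (XB B)) = im (cenS B) Qg :=
    ⟨Q.mapSurjective (f := q (cenS B)) (QuotientGroup.mk'_surjective _), by
      rw [Sylow.coe_mapSurjective, im, hQg, subgroupOf,
        comap_map_eq_self_of_injective (cenS B).subtype_injective]⟩
  have hidx : ¬ 2 ∣ ((im (cenS B) Qg).subgroupOf L).index :=
    hT₀ ▸ PTerm.sylow_inf_subnormal T₀.not_dvd_index hLm.1.1
  let T : Sylow 2 ↥L :=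
    ((hT₀ ▸ T₀.2 : IsPGroup 2 (im (cenS B) Qg)).comap_of_injective L.subtype L.subtype_injective).toSylow hidx
  have hTmem : ∀ t : ↥L, t ∈ (T : Subgroup ↥L) ↔ (t : XB B) ∈ im (cenS B) Qg := fun t => mem_subgroupOf
  set Z := center ↥L with hZ
  have hZ2 : IsPGroup 2 Z := center_two (Components.pPrimeCore_quotient (p := 2) ↥(cenS B)) hLm.1
  have hZT : Z ≤ (T : Subgroup ↥L) :=
    le_sup_left.trans_eq (T.is_maximal' (IsPGroup.to_sup_of_normal_left hZ2 T.2) le_sup_right)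
  refine ⟨T, rfl, hZT, hZ2, ?_⟩
  -- the image of `U`
  have hAC : A ≤ cenS B := hB.le_cen
  have hUL : ∀ u ∈ U, ∃ hu : u ∈ cenS B, q (cenS B) ⟨u, hu⟩ ∈ L := fun u hu => mem_pre.1 (ht.inU hu)
  have hUCA : ∀ u ∈ U, ∀ hu : u ∈ cenS B, ∀ hl : q (cenS B) ⟨u, hu⟩ ∈ L,
      (⟨_, hl⟩ : ↥L) ∈ Z → u = 1 := fun u hu huC hl hz => mem_bot.1 <| ht.inf ▸ mem_inf.2 ⟨hu, ht.le hu,
    mem_pre.2 ⟨huC, mem_centralizer_iff.2 fun l hl' =>
      congrArg Subtype.val (mem_center_iff.1 hz ⟨l, hl'⟩)⟩⟩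
  -- an element of the image of `A` in `L` is one of `U` modulo the centre
  have hdec : ∀ t : ↥L, (t : XB B) ∈ im (cenS B) A → ∃ u, ∃ hu : u ∈ cenS B, u ∈ U ∧
      ∃ z ∈ Z, (t : XB B) = q (cenS B) ⟨u, hu⟩ * (z : ↥L) := by
    rintro t ⟨⟨a, haC⟩, ha, hat⟩
    have haA : a ∈ A := ha
    rw [← ht.sup] at haA
    obtain ⟨u, hu, w, hw, e⟩ := (SolvBasic.mem_sup_iff_of_le_normalizer (show CA A B L ≤ normalizer (U : Set G) from
      fun w hw => centralizer_le_normalizer _ (mem_centralizer_iff.2 fun y hy => hS.comm (ht.le hy) hw.1))).1 haA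
    obtain ⟨huC, huL⟩ := hUL u hu
    obtain ⟨hwC, hwc⟩ := mem_pre.1 hw.2
    have e' : (t : XB B) = q (cenS B) ⟨u, huC⟩ * q (cenS B) ⟨w, hwC⟩ := by
      rw [← hat, ← map_mul]
      exact congrArg _ (Subtype.ext e)
    have hwL : q (cenS B) ⟨w, hwC⟩ ∈ L := by
      rw [← inv_mul_cancel_left (q (cenS B) ⟨u, huC⟩) (q (cenS B) ⟨w, hwC⟩), ← e']
      exact mul_mem (inv_mem huL) t.2
    exact ⟨u, huC, hu, ⟨_, hwL⟩, mem_center_iff.2 fun l => Subtype.ext (mem_centralizer_iff.1 hwc l l.2), e'⟩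
  haveI hsimp : IsSimpleGroup (↥L ⧸ Z) := hLm.1.2.2
  have hncK : ¬ IsMulCommutative (↥L ⧸ Z) := Components.quasisimple_not_commutative
    (Components.quasisimple_of_surjective hLm.1.2 (QuotientGroup.mk' Z) (QuotientGroup.mk'_surjective _))
  set π := QuotientGroup.mk' Z with hπ
  let TK : Sylow 2 (↥L ⧸ Z) := T.mapSurjective (f := π) (QuotientGroup.mk'_surjective _)
  set P₀ := ((im (cenS B) A).subgroupOf L).map π with hP₀
  have hlift : ∀ t : ↥L, π t ∈ (TK : Subgroup (↥L ⧸ Z)) → t ∈ (T : Subgroup ↥L) := by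
    rintro t ⟨t', ht', e⟩
    rw [← mul_inv_cancel_left t' t]
    exact mul_mem ht' (hZT (QuotientGroup.eq.1 e))
  have hsc : ∀ x ∈ P₀, ∀ g, g * x * g⁻¹ ∈ (TK : Subgroup (↥L ⧸ Z)) → g * x * g⁻¹ ∈ P₀ := by
    rintro _ ⟨v, hv, rfl⟩ g hg
    obtain ⟨c, rfl⟩ := QuotientGroup.mk'_surjective Z g
    rw [← hπ, ← map_inv, ← map_mul, ← map_mul] at hg ⊢
    refine mem_map_of_mem π (mem_subgroupOf.2 ?_)
    obtain ⟨⟨a, haC⟩, ha, hav⟩ := mem_subgroupOf.1 hv
    have h1 := (hTmem _).1 (hlift _ hg)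
    have e : ((c * v * c⁻¹ : ↥L) : XB B) = (c : XB B) * q (cenS B) ⟨a, haC⟩ * (c : XB B)⁻¹ := by
      rw [hav]; rfl
    rw [e] at h1 ⊢
    exact hS.closed_im hB hQ2 hAQ hQB ha h1
  have hsq0 : ∀ x ∈ P₀, x * x = 1 := by
    rintro _ ⟨v, hv, rfl⟩
    obtain ⟨⟨a, haC⟩, ha, hav⟩ := mem_subgroupOf.1 hv
    rw [← map_mul, show v * v = 1 from Subtype.ext (by
      show (v : XB B) * v = 1
      rw [← show q (cenS B) ⟨a, haC⟩ = (v : XB B) from hav, ← map_mul,
        show (⟨a, haC⟩ : cenS B) * ⟨a, haC⟩ = 1 from Subtype.ext (hS.sq ha), map_one]), map_one]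
  have hP₀T : P₀ ≤ (TK : Subgroup (↥L ⧸ Z)) := map_mono fun v hv =>
    (hTmem v).2 (Walter4.im_mono hAQ (mem_subgroupOf.1 hv))
  obtain ⟨u₀, hu₀, hu₀1⟩ := U.bot_or_exists_ne_one.resolve_left ht.ne_bot
  obtain ⟨hu₀C, hu₀L⟩ := hUL u₀ hu₀
  have hx₀ : π ⟨_, hu₀L⟩ ∈ P₀ := mem_map_of_mem π (mem_subgroupOf.2 (mem_im (ht.le hu₀) hu₀C))
  have hx₀1 : π ⟨_, hu₀L⟩ ≠ 1 := fun e =>
    hu₀1 (hUCA u₀ hu₀ hu₀C hu₀L ((QuotientGroup.eq_one_iff _).1 e))
  have hne : P₀ ≠ ⊥ := fun e => hx₀1 (mem_bot.1 (e ▸ hx₀))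
  have hea : Cfsg.IsElementaryAbelian 2 P₀ :=
    ⟨⟨⟨fun a b => Subtype.ext (Walter4.KindPf.comm_of_sq hsq0 a.2 b.2)⟩⟩,
      fun x hx => by rw [pow_two]; exact hsq0 x hx⟩
  have hlt : Nat.card (↥L ⧸ Z) < Nat.card G := lt_of_le_of_lt
    ((Nat.le_of_dvd Nat.card_pos (Subgroup.card_quotient_dvd_card Z)).trans (Subgroup.card_le_card_group L))
    (hS.card_XB_lt hB)
  have hK := hS.ind (↥L ⧸ Z) hlt hsimp hncK TK P₀ hne hea ⟨hP₀T, hsc⟩
  obtain ⟨P, hP⟩ := hS.kind (↥L ⧸ Z) hsimp hncK hK TK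
  have hPP : P = P₀ := by
    refine le_antisymm (fun y hy => ?_) fun y hy => (hP.mem_iff y (hP₀T hy)).1 (hsq0 y hy)
    by_cases hy1 : y = 1
    · exact hy1 ▸ one_mem _
    obtain ⟨g, -, -, htr, -⟩ := hP.reg
    obtain ⟨i, hi⟩ := htr _ ((hP.mem_iff _ (hP₀T hx₀)).1 (hsq0 _ hx₀)) hx₀1 y hy hy1
    exact hi ▸ hsc _ hx₀ _ (hi.symm ▸ hP.le hy)
  have hinv : ∀ t ∈ (T : Subgroup ↥L), t * t ∈ Z → ∃ u, ∃ hu : u ∈ cenS B, u ∈ U ∧
      ∃ z ∈ Z, (t : XB B) = q (cenS B) ⟨u, hu⟩ * (z : ↥L) := by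
    intro t ht' htt
    have h1 : π t ∈ P₀ := hPP ▸ (hP.mem_iff _ (mem_map_of_mem π ht')).1 (by
      rw [← map_mul]; exact (QuotientGroup.eq_one_iff _).2 htt)
    obtain ⟨v, hv, e⟩ := h1
    obtain ⟨u, hu, huU, z, hz, hvz⟩ := hdec v (mem_subgroupOf.1 hv)
    refine ⟨u, hu, huU, z * (v⁻¹ * t), mul_mem hz (QuotientGroup.eq.1 e), ?_⟩
    rw [Subgroup.coe_mul, ← mul_assoc, ← hvz, Subgroup.coe_mul, Subgroup.coe_inv, mul_inv_cancel_left]
  refine ⟨hinv, fun hU4 => ?_⟩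
  have hcard : Nat.card P = Nat.card U := by
    refine (Nat.card_congr (Equiv.ofBijective (fun u : U => (⟨π ⟨_, (hUL u u.2).2⟩, hPP ▸ mem_map_of_mem π
      (mem_subgroupOf.2 (mem_im (ht.le u.2) (hUL u u.2).1))⟩ : P)) ⟨fun u w e => ?_, fun y => ?_⟩)).symm
    · have e' := QuotientGroup.eq.1 (congrArg Subtype.val e)
      refine Subtype.ext (inv_mul_eq_one.1 (hUCA _ (mul_mem (inv_mem u.2) w.2)
        (mul_mem (inv_mem (hUL u u.2).1) (hUL w w.2).1) ?_ ?_))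
      · show q (cenS B) (⟨u, (hUL u u.2).1⟩⁻¹ * ⟨w, (hUL w w.2).1⟩) ∈ L
        rw [map_mul, map_inv]
        exact mul_mem (inv_mem (hUL u u.2).2) (hUL w w.2).2
      · exact e'
    · obtain ⟨v, hv, e⟩ : (y : ↥L ⧸ Z) ∈ P₀ := hPP ▸ y.2
      obtain ⟨u, hu, huU, z, hz, hvz⟩ := hdec v (mem_subgroupOf.1 hv)
      refine ⟨⟨u, huU⟩, Subtype.ext ?_⟩
      show π ⟨_, (hUL u huU).2⟩ = (y : ↥L ⧸ Z)
      rw [← e, show v = (⟨_, (hUL u huU).2⟩ : ↥L) * z from Subtype.ext hvz, map_mul,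
        show π z = 1 from (QuotientGroup.eq_one_iff _).2 hz, mul_one]
  have hback : (∀ x ∈ (TK : Subgroup (↥L ⧸ Z)), x * x = 1) → ∀ t ∈ (T : Subgroup ↥L), t * t ∈ Z :=
    fun hx t ht' => (QuotientGroup.eq_one_iff _).1 (by
      show π (t * t) = 1
      rw [map_mul]; exact hx _ (mem_map_of_mem π ht'))
  rcases hK with hG | ⟨H, hH⟩
  · exact Or.inl (hback (Walter4.kindStmt _ hsimp hG TK).1)
  rcases shape_se hH TK (by
      rw [show {x : ↥L ⧸ Z | x ∈ (TK : Subgroup (↥L ⧸ Z)) ∧ x * x = 1} = (P : Set (↥L ⧸ Z)) from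
        Set.ext fun x => ⟨fun h => (hP.mem_iff x h.1).1 h.2, fun h => ⟨hP.le h, (hP.mem_iff x (hP.le h)).2 h⟩⟩,
        ← Nat.card_coe_set_eq, SetLike.coe_sort_coe, hcard, hU4]) with h | h
  · exact Or.inl (hback h)
  · exact Or.inr h

namespace Cfg3

variable (hT : Cfg3 S A)
include hT

/-- At an involution of `A` the moved component is simple; its involutions in a Sylow subgroup come from the
torus part, and that Sylow subgroup is a four-group or the component is `U₃(4)`. -/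
theorem shape {a : G} (ha : a ∈ A) (ha1 : a ≠ 1) {L : Subgroup (XB (zpowers a))}
    (hLm : Moved A (zpowers a) L) {U : Subgroup G} {h : G} (ht : Torus A (zpowers a) L U h)
    (Q : Sylow 2 ↥(cenS (zpowers a)))
    (hAQ : A ≤ (Q : Subgroup ↥(cenS (zpowers a))).map (cenS (zpowers a)).subtype) :
    ∃ T : Sylow 2 ↥L,
      (T : Subgroup ↥L) =
        (im (cenS (zpowers a)) ((Q : Subgroup ↥(cenS (zpowers a))).map (cenS (zpowers a)).subtype)).subgroupOf L ∧
      center ↥L = ⊥ ∧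
      (∀ t ∈ (T : Subgroup ↥L), t * t = 1 → ∃ u, ∃ hu : u ∈ cenS (zpowers a), u ∈ U ∧
        (t : XB (zpowers a)) = q (cenS (zpowers a)) ⟨u, hu⟩) ∧
      ((∀ t ∈ (T : Subgroup ↥L), t * t = 1) ∨ UType ↥L) := by
  haveI := hLm.1.2.1
  obtain ⟨T, hTe, hZT, hZ2, hinv, hdich⟩ := hT.set.kindL (hT.set.loc_zpowers ha ha1) hLm ht Q hAQ
  have hd := hdich (hT.torus_at ha ha1 hLm ht).1
  have hZ : center ↥L = ⊥ := by
    rcases hd with hE | ⟨F, _, _, hF, ⟨e⟩⟩
    · refine center_eq_bot_of_abelian hZ2 T fun x hx y hy => Subtype.ext ?_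
      obtain ⟨u, huC, hu, z, hz, ex⟩ := hinv x hx (hE x hx)
      obtain ⟨w, hwC, hw, z', hz', ey⟩ := hinv y hy (hE y hy)
      obtain ⟨_, huL⟩ := mem_pre.1 (ht.inU hu)
      obtain ⟨_, hwL⟩ := mem_pre.1 (ht.inU hw)
      have hcomm : (⟨_, huL⟩ : ↥L) * ⟨_, hwL⟩ = ⟨_, hwL⟩ * ⟨_, huL⟩ := Subtype.ext (by
        show q (cenS (zpowers a)) ⟨u, huC⟩ * q (cenS (zpowers a)) ⟨w, hwC⟩ =
          q (cenS (zpowers a)) ⟨w, hwC⟩ * q (cenS (zpowers a)) ⟨u, huC⟩
        rw [← map_mul, ← map_mul]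
        exact congrArg _ (Subtype.ext (hT.set.comm (ht.le hu) (ht.le hw))))
      have hx' : x = ⟨_, huL⟩ * z := Subtype.ext ex
      have hy' : y = ⟨_, hwL⟩ * z' := Subtype.ext ey
      refine congrArg Subtype.val ?_
      rw [hx', hy']
      calc (⟨_, huL⟩ : ↥L) * z * (⟨_, hwL⟩ * z') = ⟨_, huL⟩ * (z * ⟨_, hwL⟩) * z' := by group
        _ = (⟨_, huL⟩ * ⟨_, hwL⟩) * (z * z') := by rw [← mem_center_iff.1 hz]; group
        _ = (⟨_, hwL⟩ * ⟨_, huL⟩) * (z' * z) := by rw [hcomm, mem_center_iff.1 hz' z]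
        _ = ⟨_, hwL⟩ * (⟨_, huL⟩ * z') * z := by group
        _ = _ := by rw [mem_center_iff.1 hz' ⟨_, huL⟩]; group
    · exact center_eq_bot_psu hZ2 le_rfl hF e
  refine ⟨T, hTe, hZ, fun t ht' htt => ?_, hd.imp (fun h t ht' => ?_) (UType.congr ?_)⟩
  · obtain ⟨u, huC, hu, z, hz, e⟩ := hinv t ht' (htt ▸ one_mem _)
    rw [hZ, mem_bot] at hz
    subst hz
    exact ⟨u, huC, hu, e.trans (mul_one _)⟩
  · exact mem_bot.1 (hZ ▸ h t ht')
  · exact ((QuotientGroup.quotientMulEquivOfEq hZ).trans QuotientGroup.quotientBot).symm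

end Cfg3

end Cfsg.Agent.Gold1169
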