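import Cfsg.Agent.Lib.Gold1169.Blocks
import Cfsg.Agent.Lib.SEMain.LocalTools

/-!
Rank three: transitivity, the moved component at each involution, and transfer of centralising.
-/

set_option autoImplicit false
set_option linter.style.haveILetI false
set_option linter.unusedSectionVars false

namespace Cfsg.Agent.Gold1169

open Subgroup
open Cfsg.Agent.Walter4 (cen cenS ocen cor XB pre CA Good mem_pre cor_zpowers map_pre_conj pre_le)
open Cfsg.Agent.OddDown.CoreSep (q im mem_im)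
open scoped commutatorElement

universe u

attribute [local instance] FittingCores.pPrimeCore_normal

variable {G : Type u} [Group G] [Finite G]

/-! ### Preimages -/

theorem q_eq_one {B : Subgroup G} {x : G} (hx : x ∈ cenS B) :
    q (cenS B) ⟨x, hx⟩ = 1 ↔ x ∈ cor B := by
  rw [QuotientGroup.mk'_apply, QuotientGroup.eq_one_iff]
  exact ⟨fun h => ⟨_, h, rfl⟩, fun ⟨y, hy, e⟩ => by
    obtain rfl : y = ⟨x, hx⟩ := Subtype.ext e
    exact hy⟩

theorem cor_le_cenS (B : Subgroup G) : cor B ≤ cenS B := map_subtype_le _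

theorem cor_odd' (B : Subgroup G) : Odd (Nat.card (cor B)) :=
  Nat.odd_iff.2 (Nat.two_dvd_ne_zero.1 (Walter4.cor_odd B))

theorem cor_le_pre (B : Subgroup G) (X : Subgroup (XB B)) : cor B ≤ pre B X := by
  intro x hx
  have hxC := cor_le_cenS B hx
  refine mem_pre.2 ⟨hxC, ?_⟩
  rw [(q_eq_one hxC).2 hx]
  exact one_mem _

theorem cenS_le_normalizer_cor (B : Subgroup G) : cenS B ≤ normalizer (cor B : Set G) :=
  ClosedAbelian.core_normalized (cenS B)

theorem q_conj_mul {B : Subgroup G} {x y : G} (hx : x ∈ cenS B) (hy : y ∈ cenS B) :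
    q (cenS B) ⟨x * y * x⁻¹ * y⁻¹, mul_mem (mul_mem (mul_mem hx hy) (inv_mem hx)) (inv_mem hy)⟩ =
      q (cenS B) ⟨x, hx⟩ * q (cenS B) ⟨y, hy⟩ * (q (cenS B) ⟨x, hx⟩)⁻¹ * (q (cenS B) ⟨y, hy⟩)⁻¹ := by
  rw [← map_inv, ← map_inv, ← map_mul, ← map_mul, ← map_mul]
  rfl

theorem comm_mem_cor {B : Subgroup G} {L : Subgroup (XB B)} {x y : G}
    (hx : x ∈ pre B (centralizer (L : Set (XB B)))) (hy : y ∈ pre B L) :
    x * y * x⁻¹ * y⁻¹ ∈ cor B := by
  obtain ⟨hxC, hx'⟩ := mem_pre.1 hx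
  obtain ⟨hyC, hy'⟩ := mem_pre.1 hy
  rw [← q_eq_one (mul_mem (mul_mem (mul_mem hxC hyC) (inv_mem hxC)) (inv_mem hyC)), q_conj_mul hxC hyC,
    ← mem_centralizer_iff.1 hx' _ hy', mul_inv_cancel_right, mul_inv_cancel]

theorem mem_pre_centralizer {B : Subgroup G} {L : Subgroup (XB B)} {x : G} (hx : x ∈ cenS B)
    (h : ∀ y ∈ pre B L, x * y * x⁻¹ * y⁻¹ ∈ cor B) : x ∈ pre B (centralizer (L : Set (XB B))) := by
  refine mem_pre.2 ⟨hx, mem_centralizer_iff.2 fun l hl => ?_⟩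
  obtain ⟨⟨y, hyC⟩, rfl⟩ := QuotientGroup.mk'_surjective _ l
  have h1 := (q_eq_one (mul_mem (mul_mem (mul_mem hx hyC) (inv_mem hx)) (inv_mem hyC))).2
    (h y (mem_pre.2 ⟨hyC, hl⟩))
  rw [q_conj_mul hx hyC, mul_inv_eq_one, mul_inv_eq_iff_eq_mul] at h1
  exact h1.symm

/-- An element centralising the preimage of an overlying component modulo its core centralises the component. -/
theorem fix_transfer {B B' : Subgroup G} (h : B ≤ B') {L : Subgroup (XB B)} (hL : Cfsg.IsComponent L)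
    {L' : Subgroup (XB B')} (hsub : pre B L ≤ cor B ⊔ pre B' L') {v : G}
    (hv : v ∈ pre B' (centralizer (L' : Set (XB B')))) : v ∈ pre B (centralizer (L : Set (XB B))) := by
  obtain ⟨hvC', -⟩ := mem_pre.1 hv
  have hle : cenS B' ≤ cenS B := Walter4.cenS_le_of_le h
  have hvC := hle hvC'
  set vb := q (cenS B) ⟨v, hvC⟩ with hvb
  set Γ := im (cenS B) (pre B' L') with hΓ
  set N := im (cenS B) (cor B') with hN
  have hNo : Odd (Nat.card N) := (cor_odd' B').of_dvd_nat ((card_map_dvd _ _).trans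
    (dvd_of_eq (Nat.card_congr (subgroupOfEquivOfLe ((cor_le_cenS B').trans hle)).toEquiv)))
  have hΓN : Γ ≤ normalizer (N : Set (XB B)) := by
    refine (map_mono ?_).trans (le_normalizer_map _)
    intro x hx
    exact mem_normalizer_iff.2 fun y => mem_normalizer_iff.1
      (cenS_le_normalizer_cor B' (pre_le hx)) (y : G)
  have hLΓ : L ≤ Γ := by
    intro l hl
    obtain ⟨⟨y, hyC⟩, rfl⟩ := QuotientGroup.mk'_surjective _ l
    obtain ⟨o, ho, z, hz, e⟩ := (SolvBasic.mem_sup_iff_of_le_normalizer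
      (pre_le.trans (hle.trans (cenS_le_normalizer_cor B)))).1 (hsub (mem_pre.2 ⟨hyC, hl⟩))
    refine ⟨⟨z, hle (pre_le hz)⟩, hz, ?_⟩
    rw [show (⟨y, hyC⟩ : cenS B) = ⟨o, cor_le_cenS B ho⟩ * ⟨z, hle (pre_le hz)⟩ from Subtype.ext e,
      map_mul, (q_eq_one (cor_le_cenS B ho)).2 ho, one_mul]
  have hact : ∀ l ∈ Γ, vb * l * vb⁻¹ * l⁻¹ ∈ N := by
    rintro _ ⟨⟨y, hyC⟩, hy, rfl⟩
    refine ⟨⟨v * y * v⁻¹ * y⁻¹, mul_mem (mul_mem (mul_mem hvC hyC) (inv_mem hvC)) (inv_mem hyC)⟩,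
      comm_mem_cor hv hy, ?_⟩
    exact q_conj_mul hvC hyC
  haveI hNs : Group.IsSolvable N := OddChar.oddSolvable N hNo
  have hLN := commutator_eq_bot_iff_le_centralizer.1
    (Components.component_commute_solvable hL hNs (hLΓ.trans hΓN))
  -- the elements moved into the k-th derived subgroup
  let D : ℕ → Subgroup (XB B) := fun k => (derivedSeries N k).map N.subtype
  have hDN : ∀ k, D k ≤ N := fun k => map_subtype_le _
  have key : ∀ k, ∀ l ∈ L, vb * l * vb⁻¹ * l⁻¹ ∈ D k := by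
    intro k
    induction k with
    | zero =>
      intro l hl
      show vb * l * vb⁻¹ * l⁻¹ ∈ (derivedSeries N 0).map N.subtype
      rw [derivedSeries_zero, ← MonoidHom.range_eq_map, range_subtype]
      exact hact l (hLΓ hl)
    | succ k ih =>
      let M : Subgroup (XB B) :=
        { carrier := {l | l ∈ L ∧ vb * l * vb⁻¹ * l⁻¹ ∈ D (k + 1)}
          one_mem' := ⟨one_mem _, by simp⟩
          mul_mem' := fun {l m} hl hm => ⟨mul_mem hl.1 hm.1, by
            have hc : vb * m * vb⁻¹ * m⁻¹ * l⁻¹ = l⁻¹ * (vb * m * vb⁻¹ * m⁻¹) :=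
              mem_centralizer_iff.1 (hLN (inv_mem hl.1)) _ (hDN _ hm.2)
            have e : vb * (l * m) * vb⁻¹ * (l * m)⁻¹ =
                (vb * l * vb⁻¹ * l⁻¹) * (vb * m * vb⁻¹ * m⁻¹) := by
              calc vb * (l * m) * vb⁻¹ * (l * m)⁻¹
                  = vb * l * vb⁻¹ * (vb * m * vb⁻¹ * m⁻¹ * l⁻¹) := by group
                _ = _ := by rw [hc]; group
            rw [e]
            exact mul_mem hl.2 hm.2⟩
          inv_mem' := fun {l} hl => ⟨inv_mem hl.1, by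
            have hc : (vb * l * vb⁻¹ * l⁻¹)⁻¹ * l⁻¹ = l⁻¹ * (vb * l * vb⁻¹ * l⁻¹)⁻¹ :=
              mem_centralizer_iff.1 (hLN (inv_mem hl.1)) _ (hDN _ (inv_mem hl.2))
            have e : vb * l⁻¹ * vb⁻¹ * l⁻¹⁻¹ = (vb * l * vb⁻¹ * l⁻¹)⁻¹ := by
              calc vb * l⁻¹ * vb⁻¹ * l⁻¹⁻¹ = l⁻¹ * (vb * l * vb⁻¹ * l⁻¹)⁻¹ * l := by group
                _ = _ := by rw [← hc, inv_mul_cancel_right]
            rw [e]
            exact inv_mem hl.2⟩ }
      have hLM : L ≤ M := by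
        rw [← Components.component_commutator_eq hL, commutator_le]
        intro l hl m hm
        refine ⟨mul_mem (mul_mem (mul_mem hl hm) (inv_mem hl)) (inv_mem hm), ?_⟩
        set n := vb * l * vb⁻¹ * l⁻¹ with hn
        set r := vb * m * vb⁻¹ * m⁻¹ with hr
        have hln : ∀ x ∈ L, ∀ y ∈ N, x * y = y * x := fun x hx y hy =>
          (mem_centralizer_iff.1 (hLN hx) y hy).symm
        have e1 : vb * l * vb⁻¹ = n * l := by rw [hn, inv_mul_cancel_right]
        have e2 : vb * m * vb⁻¹ = r * m := by rw [hr, inv_mul_cancel_right]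
        have e : vb * ⁅l, m⁆ * vb⁻¹ * ⁅l, m⁆⁻¹ = ⁅n, r⁆ := by
          have h1 : vb * ⁅l, m⁆ * vb⁻¹ = ⁅n * l, r * m⁆ := by
            rw [← e1, ← e2]; simp only [commutatorElement_def]; group
          have hn' := hDN k (ih l hl)
          have hr' := hDN k (ih m hm)
          have c1 : Commute l r := hln l hl r hr'
          have c2 : Commute m n := hln m hm n hn'
          have c3 : Commute l n := hln l hl n hn'
          have c4 : Commute m r := hln m hm r hr'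
          have h2 : ⁅n * l, r * m⁆ = ⁅n, r⁆ * ⁅l, m⁆ := by
            simp only [commutatorElement_def, mul_inv_rev]
            calc n * l * (r * m) * (l⁻¹ * n⁻¹) * (m⁻¹ * r⁻¹)
                = n * (l * r) * (m * l⁻¹ * (n⁻¹ * m⁻¹)) * r⁻¹ := by group
              _ = n * (r * l) * (m * l⁻¹ * (m⁻¹ * n⁻¹)) * r⁻¹ := by
                  rw [c1.eq, (c2.inv_inv).symm.eq]
              _ = n * r * ((l * m * l⁻¹ * m⁻¹) * (n⁻¹ * r⁻¹)) := by group
              _ = n * r * ((n⁻¹ * r⁻¹) * (l * m * l⁻¹ * m⁻¹)) := by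
                  rw [(((c3.inv_right.mul_left c2.inv_right).mul_left c3.inv_inv).mul_left c2.inv_inv
                    |>.mul_right (((c1.inv_right.mul_left c4.inv_right).mul_left c1.inv_inv).mul_left
                      c4.inv_inv)).eq]
              _ = n * r * n⁻¹ * r⁻¹ * (l * m * l⁻¹ * m⁻¹) := by group
          rw [h1, h2, mul_inv_cancel_right]
        rw [e]
        show ⁅n, r⁆ ∈ (derivedSeries N (k + 1)).map N.subtype
        rw [derivedSeries_succ, map_commutator]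
        exact commutator_mem_commutator (ih l hl) (ih m hm)
      exact fun l hl => (hLM hl).2
  refine mem_pre.2 ⟨hvC, mem_centralizer_iff.2 fun l hl => ?_⟩
  obtain ⟨k, hk⟩ := (Group.isSolvable_def N).1 hNs
  have h0 := key k l hl
  change _ ∈ (derivedSeries N k).map N.subtype at h0
  rw [hk, Subgroup.map_bot, mem_bot, mul_inv_eq_one, mul_inv_eq_iff_eq_mul] at h0
  exact h0.symm

/-- The odd core of a smaller centraliser normalises a moved component. -/
theorem cor_normalizes {A : Subgroup G} (hA : Cfsg.IsElementaryAbelian 2 A) (hL : Local A) {B B' : Subgroup G}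
    (hB : Loc A B) (hB' : Loc A B') (_h : B ≤ B') {L : Subgroup (XB B)} (hLm : Moved A B L) :
    im (cenS B) (cor B') ≤ normalizer (L : Set (XB B)) := by
  obtain ⟨U, t, ht⟩ := hL.torus B hB L hLm
  have hU : U ≠ ⊥ := fun e => by
    have := ht.four
    rw [e, card_bot] at this
    omega
  obtain ⟨c, hcU, hc1⟩ := U.bot_or_exists_ne_one.resolve_left hU
  have hcA := ht.le hcU
  have hAB : A ≤ cenS B := le_centralizer_iff.1 hB.2.2
  have hAB' : A ≤ cenS B' := le_centralizer_iff.1 hB'.2.2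
  have hcC := hAB hcA
  intro x hx
  obtain ⟨⟨o, hoC⟩, ho, rfl⟩ := hx
  have ho' : o ∈ cor B' := ho
  set ob := q (cenS B) ⟨o, hoC⟩ with hob
  rw [← LEBasic.map_conj_eq_iff_mem_normalizer]
  set M := L.map (MulAut.conj ob).toMonoidHom with hM
  by_contra hne
  have hMc : Cfsg.IsComponent M := Components.component_conj hLm.1 ob
  obtain ⟨hcC', hcM⟩ := mem_pre.1 (hL.orth B hB L M hLm hMc (fun e => hne e.symm) U t ht hcU).2
  set cb := q (cenS B) ⟨c, hcC⟩ with hcb
  have hcL : ∀ l ∈ L, cb * l * cb⁻¹ ∈ L := fun l hl =>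
    (mem_normalizer_iff.1 (hL.normal B hB L hLm.1 (mem_im hcA hcC)) l).1 hl
  -- `c` acts on `L` as the element `n`
  set n := (cb * ob * cb⁻¹)⁻¹ * ob with hn
  have hnL : ∀ l ∈ L, cb * l * cb⁻¹ = n * l * n⁻¹ := by
    intro l hl
    have h1 : cb * (ob * l * ob⁻¹) * cb⁻¹ = ob * l * ob⁻¹ := by
      have h2 : ob * l * ob⁻¹ * cb = cb * (ob * l * ob⁻¹) :=
        mem_centralizer_iff.1 hcM _ ⟨l, hl, rfl⟩
      rw [← h2, mul_inv_cancel_right]
    calc cb * l * cb⁻¹
        = (cb * ob * cb⁻¹)⁻¹ * (cb * (ob * l * ob⁻¹) * cb⁻¹) * (cb * ob * cb⁻¹) := by group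
      _ = n * l * n⁻¹ := by rw [h1, hn]; group
  have hcc : c * c = 1 := by rw [← pow_two]; exact hA.2 c hcA
  have hcb2 : cb * cb = 1 := by
    rw [hcb, ← map_mul, show (⟨c, hcC⟩ : cenS B) * ⟨c, hcC⟩ = 1 from Subtype.ext hcc, map_one]
  have hn_odd : Odd (orderOf n) := by
    have hmem : (c * o * c⁻¹)⁻¹ * o ∈ cor B' := mul_mem (inv_mem
      ((mem_normalizer_iff.1 (cenS_le_normalizer_cor B' (hAB' hcA)) o).1 ho')) ho'
    refine (ClosedAbelian.odd_orderOf_of_mem (Walter4.cor_odd B') hmem).of_dvd_nat ?_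
    have e : n = q (cenS B) (⟨c, hcC⟩ * ⟨o, hoC⟩ * ⟨c, hcC⟩⁻¹)⁻¹ * q (cenS B) ⟨o, hoC⟩ := by
      rw [hn, map_inv, map_mul, map_mul, map_inv]
    rw [e, ← map_mul]
    refine (orderOf_map_dvd _ _).trans ?_
    rw [← orderOf_coe]
    exact dvd_rfl
  have hn2 : ∀ l ∈ L, n ^ 2 * l * (n ^ 2)⁻¹ = l := fun l hl => by
    calc n ^ 2 * l * (n ^ 2)⁻¹ = n * (n * l * n⁻¹) * n⁻¹ := by rw [pow_two]; group
      _ = cb * (cb * l * cb⁻¹) * cb⁻¹ := by rw [hnL _ (hcL l hl), hnL l hl]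
      _ = cb * cb * l * (cb * cb)⁻¹ := by group
      _ = l := by rw [hcb2, inv_one, one_mul, mul_one]
  have hn1 : ∀ l ∈ L, n * l * n⁻¹ = l := fun l hl => by
    have h2 : n ^ 2 ∈ centralizer ({l} : Set (XB B)) := by
      rw [mem_centralizer_singleton_iff]
      calc n ^ 2 * l = n ^ 2 * l * (n ^ 2)⁻¹ * n ^ 2 := by group
        _ = l * n ^ 2 := by rw [hn2 l hl]
    have h3 := mem_centralizer_singleton_iff.1 (ClosedAbelian.mem_of_sq_mem (by rwa [← pow_two]) hn_odd)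
    rw [h3, mul_inv_cancel_right]
  have hfix : c ∈ CA A B L := ⟨hcA, mem_pre.2 ⟨hcC, mem_centralizer_iff.2 fun l hl => by
    have h4 := hnL l hl
    rw [hn1 l hl, mul_inv_eq_iff_eq_mul] at h4
    exact h4.symm⟩⟩
  exact hc1 (mem_bot.1 (ht.inf ▸ ⟨hcU, hfix⟩))

/-- An element centralising a component at `B` centralises one at `B'` under it. -/
theorem fix_down {B B' : Subgroup G} (h : B ≤ B') {L : Subgroup (XB B)} {L' : Subgroup (XB B')}
    (hNL : im (cenS B) (cor B') ≤ normalizer (L : Set (XB B)))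
    (hsub : pre B' L' ≤ cor B' ⊔ pre B L) {v : G} (hvC : v ∈ cenS B')
    (hv : v ∈ pre B (centralizer (L : Set (XB B)))) : v ∈ pre B' (centralizer (L' : Set (XB B'))) := by
  refine mem_pre_centralizer hvC fun y hy => ?_
  have hle : cenS B' ≤ cenS B := Walter4.cenS_le_of_le h
  have hyC : y ∈ cenS B' := pre_le hy
  have hz : v * y * v⁻¹ * y⁻¹ ∈ cenS B' :=
    mul_mem (mul_mem (mul_mem hvC hyC) (inv_mem hvC)) (inv_mem hyC)
  set vb := q (cenS B) ⟨v, hle hvC⟩ with hvb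
  set N := im (cenS B) (cor B') with hN
  obtain ⟨_, hvL⟩ := mem_pre.1 hv
  have hvN : ∀ n ∈ N, vb * n * vb⁻¹ ∈ N := by
    rintro _ ⟨⟨o, hoC⟩, ho, rfl⟩
    refine ⟨⟨v * o * v⁻¹, mul_mem (mul_mem (hle hvC) hoC) (inv_mem (hle hvC))⟩,
      (mem_normalizer_iff.1 (cenS_le_normalizer_cor B' hvC) o).1 ho, ?_⟩
    rw [hvb, ← map_inv, ← map_mul, ← map_mul]
    rfl
  have hyNL : q (cenS B) ⟨y, hle hyC⟩ ∈ N ⊔ L := by
    have hsup : cor B' ⊔ pre B L ≤ pre B (N ⊔ L) := sup_le (fun o ho => mem_pre.2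
      ⟨hle (cor_le_cenS B' ho), mem_sup_left (mem_im ho _)⟩) (fun x hx => by
      obtain ⟨hxC, hx'⟩ := mem_pre.1 hx
      exact mem_pre.2 ⟨hxC, mem_sup_right hx'⟩)
    obtain ⟨_, h1⟩ := mem_pre.1 (hsup (hsub hy))
    exact h1
  rw [sup_comm] at hyNL
  obtain ⟨l, hl, n, hn, e⟩ := (SolvBasic.mem_sup_iff_of_le_normalizer hNL).1 hyNL
  have hzN : q (cenS B) ⟨v * y * v⁻¹ * y⁻¹, hle hz⟩ ∈ N := by
    rw [q_conj_mul (hle hvC) (hle hyC), ← hvb, e]
    have hvl : vb * l * vb⁻¹ = l := by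
      rw [mul_inv_eq_iff_eq_mul]; exact (mem_centralizer_iff.1 hvL l hl).symm
    rw [show vb * (l * n) * vb⁻¹ * (l * n)⁻¹ = (vb * l * vb⁻¹) * (vb * n * vb⁻¹ * n⁻¹) * l⁻¹ by group, hvl]
    have h5 : vb * n * vb⁻¹ * n⁻¹ ∈ N := mul_mem (hvN n hn) (inv_mem hn)
    have hyN : q (cenS B) ⟨y, hle hyC⟩ ∈ normalizer (N : Set (XB B)) :=
      le_normalizer_map _ ⟨⟨y, hle hyC⟩, (mem_normalizer_iff.2 fun w => mem_normalizer_iff.1
        (cenS_le_normalizer_cor B' hyC) (w : G) : (⟨y, hle hyC⟩ : cenS B) ∈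
          normalizer (((cor B').subgroupOf (cenS B) : Subgroup ↥(cenS B)) : Set ↥(cenS B))), rfl⟩
    have hlN : l ∈ normalizer (N : Set (XB B)) := by
      rw [eq_mul_inv_of_mul_eq e.symm]
      exact mul_mem hyN (inv_mem (le_normalizer hn))
    exact (mem_normalizer_iff.1 hlN _).1 h5
  obtain ⟨⟨o, hoC⟩, ho, e'⟩ := hzN
  have ho' : o ∈ cor B' := ho
  have hd : (v * y * v⁻¹ * y⁻¹) * o⁻¹ ∈ cor B := by
    rw [← q_eq_one (mul_mem (hle hz) (inv_mem hoC)),
      show (⟨_, mul_mem (hle hz) (inv_mem hoC)⟩ : cenS B) =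
        ⟨v * y * v⁻¹ * y⁻¹, hle hz⟩ * ⟨o, hoC⟩⁻¹ from rfl, map_mul, map_inv, ← e', mul_inv_cancel]
  have hinf : cor B ⊓ cenS B' ≤ cor B' := ClosedAbelian.le_core inf_le_right
    ((_root_.le_inf (hle.trans (cenS_le_normalizer_cor B)) le_normalizer).trans
      inf_normalizer_le_normalizer_inf) fun h2 =>
        Walter4.cor_odd B (h2.trans (card_dvd_of_le inf_le_left))
  have := mul_mem (hinf (mem_inf.2 ⟨hd, (cenS B').mul_mem hz ((cenS B').inv_mem (cor_le_cenS B' ho'))⟩)) ho'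
  rwa [inv_mul_cancel_right] at this

/-! ### Moved components -/

variable {A : Subgroup G} {B : Subgroup G}

theorem Loc.le_cen (hB : Loc A B) : A ≤ cenS B := le_centralizer_iff.1 hB.2.2

theorem le_CA (hB : Loc A B) (hBA : B ≤ A) (L : Subgroup (XB B)) : B ≤ CA A B L := fun b hb => by
  refine ⟨hBA hb, mem_pre_centralizer (hB.le_cen (hBA hb)) fun y hy => ?_⟩
  rw [mem_centralizer_iff.1 (pre_le hy) b hb, mul_inv_cancel_right, mul_inv_cancel]
  exact one_mem _

theorem Torus.ne_bot {L : Subgroup (XB B)} {U : Subgroup G} {h : G} (ht : Torus A B L U h) : U ≠ ⊥ := fun e => by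
  have := ht.four
  rw [e, card_bot] at this
  omega

theorem torus_card {L : Subgroup (XB B)} {U : Subgroup G} {h : G} (hA : Cfsg.IsElementaryAbelian 2 A)
    (ht : Torus A B L U h) : Nat.card U * Nat.card (CA A B L) = Nat.card A := by
  have hn : CA A B L ≤ normalizer (U : Set G) := fun w hw => mem_normalizer_iff.2 fun x => by
    have key : ∀ y ∈ U, w * y * w⁻¹ = y := fun y hy => by
      have hc : (⟨w, hw.1⟩ : A) * ⟨y, ht.le hy⟩ = ⟨y, ht.le hy⟩ * ⟨w, hw.1⟩ := hA.1.is_comm.comm _ _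
      have hc' : w * y = y * w := congrArg Subtype.val hc
      rw [hc', mul_inv_cancel_right]
    refine ⟨fun hx => by rw [key x hx]; exact hx, fun hx => ?_⟩
    have h1 := key _ hx
    have h2 : w * x * w⁻¹ = x := mul_left_cancel (mul_right_cancel (h1 : w * (w * x * w⁻¹) * w⁻¹ = w * x * w⁻¹))
    rwa [h2] at hx
  have h1 := SEMain.card_sup_mul_inf hn
  rw [inf_comm, ht.inf, card_bot, mul_one, sup_comm, ht.sup] at h1
  rw [h1, mul_comm]

/-- The elements centralising every moved component at `a`. -/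
def fix1 (A : Subgroup G) (a : G) : Subgroup G :=
  cenS A ⊓ ⨅ L : {L : Subgroup (XB (zpowers a)) // Moved A (zpowers a) L},
    pre (zpowers a) (centralizer ((L : Subgroup (XB (zpowers a))) : Set (XB (zpowers a))))

theorem mem_fix1 {a w : G} : w ∈ fix1 A a ↔ w ∈ cenS A ∧
    ∀ L : Subgroup (XB (zpowers a)), Moved A (zpowers a) L →
      w ∈ pre (zpowers a) (centralizer (L : Set (XB (zpowers a)))) := by
  simp [fix1, mem_iInf]

/-- The elements centralising every moved component at every involution of `A`. -/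
def uni (A : Subgroup G) : Subgroup G :=
  cenS A ⊓ ⨅ a : {a : G // a ∈ A ∧ a ≠ 1}, fix1 A (a : G)

theorem mem_uni {w : G} : w ∈ uni A ↔ w ∈ cenS A ∧ ∀ a ∈ A, a ≠ 1 → w ∈ fix1 A a := by
  simp [uni, mem_iInf]

/-- The configuration of rank three. -/
structure Cfg3 (S : Sylow 2 G) (A : Subgroup G) : Prop where
  set : Setup S A
  loc : Local A
  card : Nat.card A = 8
  moved : ∃ a ∈ A, a ≠ 1 ∧ ∃ L, Moved A (zpowers a) L

namespace Cfg3

variable {S : Sylow 2 G} (hT : Cfg3 S A)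
include hT

theorem torus_at {a : G} (ha : a ∈ A) (ha1 : a ≠ 1) {L : Subgroup (XB (zpowers a))}
    (_hLm : Moved A (zpowers a) L) {U : Subgroup G} {h : G} (ht : Torus A (zpowers a) L U h) :
    Nat.card U = 4 ∧ CA A (zpowers a) L = zpowers a ∧ a ∉ U := by
  have hle := le_CA (hT.set.loc_zpowers ha ha1) (zpowers_le.2 ha) L
  have hm := torus_card hT.set.ea ht
  rw [hT.card] at hm
  have h2 : 2 ∣ Nat.card (CA A (zpowers a) L) := by
    rw [← hT.set.orderOf_eq ha ha1, ← Nat.card_zpowers]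
    exact card_dvd_of_le hle
  have h4 := ht.four
  have hc2 : 2 ≤ Nat.card (CA A (zpowers a) L) := Nat.le_of_dvd Nat.card_pos h2
  have hU : Nat.card U = 4 := by nlinarith
  refine ⟨hU, (eq_of_le_of_card_ge hle ?_).symm, fun haU => ?_⟩
  · rw [Nat.card_zpowers, hT.set.orderOf_eq ha ha1]
    rw [hU] at hm
    omega
  · exact ha1 (mem_bot.1 (ht.inf ▸ ⟨haU, hle (mem_zpowers a)⟩))

theorem moved_unique {a : G} (ha : a ∈ A) (ha1 : a ≠ 1) {L M : Subgroup (XB (zpowers a))}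
    (hLm : Moved A (zpowers a) L) (hM : Moved A (zpowers a) M) : L = M := by
  by_contra hne
  have hB := hT.set.loc_zpowers ha ha1
  obtain ⟨U, h, ht⟩ := hT.loc.torus _ hB L hLm
  obtain ⟨U', h', ht'⟩ := hT.loc.torus _ hB M hM
  have h1 := hT.loc.orth _ hB L M hLm hM.1 hne U h ht
  rw [(hT.torus_at ha ha1 hM ht').2.1] at h1
  have := card_le_of_le h1
  rw [(hT.torus_at ha ha1 hLm ht).1, Nat.card_zpowers, hT.set.orderOf_eq ha ha1] at this
  omega

/-- Two moved components with the same centraliser of order two are equal. -/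
theorem eq_of_CA_eq {B : Subgroup G} (hB : Loc A B) {L M : Subgroup (XB B)} (hLm : Moved A B L)
    (hM : Moved A B M) {a : G} (ha : a ∈ A) (ha1 : a ≠ 1) (hMa : CA A B M = zpowers a) : L = M := by
  by_contra hne
  obtain ⟨U, h, ht⟩ := hT.loc.torus B hB L hLm
  have h1 := card_le_of_le (hMa ▸ hT.loc.orth B hB L M hLm hM.1 hne U h ht)
  have h4 := ht.four
  rw [Nat.card_zpowers, hT.set.orderOf_eq ha ha1] at h1
  omega

/-- `N(A)` is transitive on the involutions of `A`. -/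
theorem trans {a b : G} (ha : a ∈ A) (ha1 : a ≠ 1) (hb : b ∈ A) (hb1 : b ≠ 1) :
    ∃ n ∈ normalizer (A : Set G), n * a * n⁻¹ = b := by
  classical
  obtain ⟨c, hc, hc1, L, hLm⟩ := hT.moved
  obtain ⟨U, h, ht⟩ := hT.loc.torus _ (hT.set.loc_zpowers hc hc1) L hLm
  obtain ⟨hU4, hCA, hcU⟩ := hT.torus_at hc hc1 hLm ht
  have hsA : ∀ {x : G}, x ∈ A → x * x = 1 := fun hx => hT.set.sq hx
  let O : Set G := {x | ∃ n ∈ normalizer (A : Set G), n * c * n⁻¹ = x}
  have hO : ∀ n ∈ normalizer (A : Set G), ∀ x ∈ O, n * x * n⁻¹ ∈ O := by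
    rintro n hn _ ⟨m, hm, rfl⟩
    exact ⟨n * m, mul_mem hn hm, by group⟩
  -- a proper invariant subgroup is trivial
  have hinv : ∀ K : Subgroup G, K ≤ A → (∀ n ∈ normalizer (A : Set G), ∀ x ∈ K, n * x * n⁻¹ ∈ K) →
      K = ⊥ ∨ K = A := fun K hK hn => or_iff_not_imp_left.2 fun h0 =>
    hT.set.irred K hK h0 (Subgroup.le_normalizer_iff.2 fun n hn' x hx => hn n hn' x hx)
  obtain ⟨u, hu, hu1⟩ := U.bot_or_exists_ne_one.resolve_left ht.ne_bot
  -- a point of `U` in the orbit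
  have hUall : ∀ y ∈ O, y ∈ U → y ≠ 1 → ∀ x ∈ U, x ≠ 1 → x ∈ O := by
    intro y hy hyU hy1 x hx hx1
    obtain ⟨i, hi⟩ := ht.trans y hyU hy1 x hx hx1
    exact hi ▸ hO _ (pow_mem ht.norm i) _ hy
  have hfc : ∀ i : ℕ, h ^ i * c * (h ^ i)⁻¹ = c := fun i => by
    have hcomm : Commute h c := ht.fix c (hCA.ge (mem_zpowers c))
    rw [(hcomm.pow_left i).eq, mul_inv_cancel_right]
  have hcUall : ∀ y ∈ U, y ≠ 1 → c * y ∈ O → ∀ x ∈ U, x ≠ 1 → c * x ∈ O := by
    intro y hyU hy1 hy x hx hx1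
    obtain ⟨i, hi⟩ := ht.trans y hyU hy1 x hx hx1
    have h1 := hO _ (pow_mem ht.norm i) _ hy
    rwa [show h ^ i * (c * y) * (h ^ i)⁻¹ = (h ^ i * c * (h ^ i)⁻¹) * (h ^ i * y * (h ^ i)⁻¹) by group,
      hfc i, hi] at h1
  have hdec : ∀ x ∈ A, x ∈ U ∨ ∃ y ∈ U, x = c * y := by
    intro x hx
    have hle : zpowers c ≤ normalizer (U : Set G) := zpowers_le.2 (by
      refine mem_normalizer_iff.2 fun w => ⟨fun hw => ?_, fun hw => ?_⟩
      · rw [hT.set.comm hc (ht.le hw), mul_inv_cancel_right]; exact hw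
      · have hwA : w ∈ A := by
          have := mul_mem (mul_mem (inv_mem hc) (ht.le hw)) hc
          rwa [show c⁻¹ * (c * w * c⁻¹) * c = w by group] at this
        rwa [hT.set.comm hc hwA, mul_inv_cancel_right] at hw)
    have hx' : x ∈ U ⊔ zpowers c := by rw [← hCA, ht.sup]; exact hx
    obtain ⟨y, hy, z, hz, e⟩ := (SolvBasic.mem_sup_iff_of_le_normalizer hle).1 hx'
    obtain ⟨i, rfl⟩ := mem_zpowers_iff.1 hz
    rcases Int.even_or_odd i with ⟨j, rfl⟩ | ⟨j, rfl⟩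
    · rw [← two_mul, zpow_mul, zpow_two, hsA hc, one_zpow, mul_one] at e
      exact Or.inl (e ▸ hy)
    · rw [zpow_add, zpow_mul, zpow_two, hsA hc, one_zpow, one_mul, zpow_one] at e
      exact Or.inr ⟨y, hy, by rw [e, hT.set.comm (ht.le hy) hc]⟩
  have hcO : c ∈ O := ⟨1, one_mem _, by simp⟩
  have hOA : ∀ x ∈ O, x ∈ A ∧ x ≠ 1 := by
    rintro _ ⟨n, hn, rfl⟩
    exact ⟨(hT.set.conj_mem_iff hn).1 hc, fun e => hc1 (conj_eq_one_iff.1 e)⟩
  have hall : ∀ x ∈ A, x ≠ 1 → x ∈ O := by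
    -- the orbit is not the centraliser alone
    have hex : ∃ n ∈ normalizer (A : Set G), n * c * n⁻¹ ≠ c := by
      by_contra hno
      push Not at hno
      rcases hinv (zpowers c) (zpowers_le.2 hc) (fun n hn x hx => by
        obtain ⟨i, rfl⟩ := mem_zpowers_iff.1 hx
        rw [← conj_zpow, hno n hn]
        exact zpow_mem (mem_zpowers c) i) with e | e
      · exact hc1 (zpowers_eq_bot.1 e)
      · have := congrArg (fun K : Subgroup G => Nat.card K) e
        simp only [Nat.card_zpowers, hT.set.orderOf_eq hc hc1, hT.card] at this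
        omega
    obtain ⟨n, hn, hne⟩ := hex
    have hx := hOA _ ⟨n, hn, rfl⟩
    rcases hdec _ hx.1 with hU' | ⟨y, hyU, hy⟩
    · have hU' := hUall _ ⟨n, hn, rfl⟩ hU' hx.2
      by_contra hno
      push Not at hno
      obtain ⟨x, hxA, hx1, hxO⟩ := hno
      rcases hdec x hxA with hxU | ⟨y, hyU, rfl⟩
      · exact hxO (hU' x hxU hx1)
      have hy1 : y ≠ 1 := fun e => hxO (by rw [e, mul_one]; exact hcO)
      have hcy : ∀ w ∈ U, w ≠ 1 → c * w ∉ O := fun w hw hw1 hwO =>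
        hxO (hcUall w hw hw1 hwO y hyU hy1)
      -- two points of `U` multiply outside the orbit, unlike `c` and any point
      obtain ⟨u₁, hu₁, e₁⟩ : ∃ u₁ ∈ U, n * u₁ * n⁻¹ = c ∨ n * (c * u₁) * n⁻¹ = c := by
        have hc' : n⁻¹ * c * n ∈ A := (hT.set.conj_mem_iff hn).2 (by
          rw [show n * (n⁻¹ * c * n) * n⁻¹ = c by group]; exact hc)
        rcases hdec _ hc' with hw | ⟨w, hw, he⟩
        · exact ⟨_, hw, Or.inl (by group)⟩
        · exact ⟨w, hw, Or.inr (by rw [← he]; group)⟩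
      have hbad : ∀ p ∈ O, p ≠ c → c * p ∉ O := fun p hp hpc => by
        rcases hdec p (hOA p hp).1 with hpU | ⟨w, hw, rfl⟩
        · exact hcy p hpU (hOA p hp).2
        · refine absurd hp (hcy w hw fun e => hpc (by rw [e, mul_one]))
      -- moved: every product of two points is outside, but the points of `U` are closed
      have key : ∀ p ∈ O, ∀ r ∈ O, p ≠ r → p * r ∉ O := by
        rintro _ ⟨m, hm, rfl⟩ r hr hpr hprO
        have h1 := hO m⁻¹ (inv_mem hm) r hr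
        have h2 := hO m⁻¹ (inv_mem hm) _ hprO
        refine hbad (m⁻¹ * r * m⁻¹⁻¹) h1 (fun e => hpr ?_) ?_
        · calc m * c * m⁻¹ = m * (m⁻¹ * r * m⁻¹⁻¹) * m⁻¹ := by rw [e]
            _ = r := by group
        · rwa [show m⁻¹ * (m * c * m⁻¹ * r) * m⁻¹⁻¹ = c * (m⁻¹ * r * m⁻¹⁻¹) by group] at h2
      obtain ⟨i, hi⟩ := ht.trans u hu hu1 u hu hu1
      obtain ⟨v, hv, hv1, hvu⟩ : ∃ v ∈ U, v ≠ 1 ∧ v ≠ u := by
        by_contra hno
        push Not at hno
        have hsub : (U : Set G) ⊆ {1, u} := fun w hw => by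
          by_cases hw1 : w = 1
          · exact Or.inl hw1
          · exact Or.inr (hno w hw hw1)
        have h1 := Set.ncard_le_ncard hsub
        rw [Set.ncard_pair (Ne.symm hu1), ← Nat.card_coe_set_eq, SetLike.coe_sort_coe, hU4] at h1
        omega
      refine key u (hU' u hu hu1) v (hU' v hv hv1) (Ne.symm hvu) (hU' _ (mul_mem hu hv) fun e => hvu ?_)
      rw [← inv_eq_of_mul_eq_one_right (hsA (ht.le hu))]
      exact (eq_inv_of_mul_eq_one_right e)
    · have hy1 : y ≠ 1 := fun e => hne (by rw [hy, e, mul_one])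
      have hcU' := hcUall y hyU hy1 (hy ▸ ⟨n, hn, rfl⟩)
      by_contra hno
      push Not at hno
      obtain ⟨x, hxA, hx1, hxO⟩ := hno
      rcases hdec x hxA with hxU | ⟨w, hw, rfl⟩
      swap
      · exact hxO (if hw1 : w = 1 then by rw [hw1, mul_one]; exact hcO else hcU' w hw hw1)
      -- `U` is then invariant
      have hUinv : ∀ m ∈ normalizer (A : Set G), ∀ w ∈ U, m * w * m⁻¹ ∈ U := by
        intro m hm w hw
        by_cases hw1 : w = 1
        · rw [hw1, mul_one, mul_inv_cancel]; exact one_mem _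
        rcases hdec _ ((hT.set.conj_mem_iff hm).1 (ht.le hw)) with hmU | ⟨y', hy', e⟩
        · exact hmU
        exfalso
        have hin : m * w * m⁻¹ ∈ O := by
          rw [e]
          by_cases hy'1 : y' = 1
          · rw [hy'1, mul_one]; exact hcO
          · exact hcU' y' hy' hy'1
        have hwO : w ∈ O := by
          have := hO m⁻¹ (inv_mem hm) _ hin
          rwa [show m⁻¹ * (m * w * m⁻¹) * m⁻¹⁻¹ = w by group] at this
        exact hxO (hUall w hwO hw hw1 x hxU hx1)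
      rcases hinv U ht.le hUinv with e | e
      · exact ht.ne_bot e
      · rw [e, hT.card] at hU4
        omega
  obtain ⟨n, hn, rfl⟩ := hall a ha ha1
  obtain ⟨m, hm, rfl⟩ := hall b hb hb1
  exact ⟨m * n⁻¹, mul_mem hm (inv_mem hn), by group⟩

end Cfg3

end Cfsg.Agent.Gold1169
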