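import Cfsg.Agent.Lib.Gold1169.Three.Kind

/-!
Rank three: `A` is central in `S`, and the frame of each moved component inside `S`.
-/

set_option autoImplicit false
set_option linter.style.haveILetI false
set_option linter.unusedSectionVars false

namespace Cfsg.Agent.Gold1169

open Subgroup
open Cfsg.Agent.Walter4 (cen cenS ocen cor XB pre CA Good mem_pre pre_le)
open Cfsg.Agent.OddDown.CoreSep (q im mem_im)
open scoped commutatorElement

universe u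

attribute [local instance] FittingCores.pPrimeCore_normal

variable {G : Type u} [Group G] [Finite G]

theorem pre_conj_mem {B : Subgroup G} {X : Subgroup (XB B)} {s x : G} (hs : s ∈ cenS B)
    (hn : q (cenS B) ⟨s, hs⟩ ∈ normalizer (X : Set (XB B))) (hx : x ∈ pre B X) :
    s * x * s⁻¹ ∈ pre B X := by
  obtain ⟨hxC, hx'⟩ := mem_pre.1 hx
  refine mem_pre.2 ⟨mul_mem (mul_mem hs hxC) (inv_mem hs), ?_⟩
  have h := (mem_normalizer_iff.1 hn _).1 hx'
  rwa [← map_inv, ← map_mul, ← map_mul] at h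

namespace Cfg3

variable {S : Sylow 2 G} {A : Subgroup G} (hT : Cfg3 S A)
include hT

/-- The part of `A` in a moved component at `a` is a complement of `a` of order four. -/
theorem part {a : G} (ha : a ∈ A) (ha1 : a ≠ 1) {L : Subgroup (XB (zpowers a))}
    (hLm : Moved A (zpowers a) L) :
    Nat.card (A ⊓ pre (zpowers a) L : Subgroup G) = 4 ∧ a ∉ pre (zpowers a) L ∧
      (∀ x ∈ A, ∃ u ∈ A ⊓ pre (zpowers a) L, x = u ∨ x = u * a) ∧
      ∃ h, Torus A (zpowers a) L (A ⊓ pre (zpowers a) L) h := by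
  have hB := hT.set.loc_zpowers ha ha1
  obtain ⟨U, h, ht⟩ := hT.loc.torus _ hB L hLm
  obtain ⟨hU4, hCA, haU⟩ := hT.torus_at ha ha1 hLm ht
  obtain ⟨Q, hQ⟩ := hT.set.exists_sylow hB
  obtain ⟨T, hTe, -, hinv, -⟩ := hT.shape ha ha1 hLm ht Q hQ
  have hUA : A ⊓ pre (zpowers a) L = U := by
    refine le_antisymm (fun x hx => ?_) (_root_.le_inf ht.le ht.inU)
    obtain ⟨hxC, hxL⟩ := mem_pre.1 hx.2
    obtain ⟨u, huC, hu, e⟩ := hinv ⟨_, hxL⟩ (hTe ▸ mem_subgroupOf.2 (mem_im (hQ hx.1) hxC)) (Subtype.ext (by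
      show q _ ⟨x, hxC⟩ * q _ ⟨x, hxC⟩ = 1
      rw [← map_mul, show (⟨x, hxC⟩ : cenS (zpowers a)) * ⟨x, hxC⟩ = 1 from Subtype.ext (hT.set.sq hx.1), map_one]))
    exact eq_of_q hT.set.isPGroup hx.1 (ht.le hu) hxC huC e ▸ hu
  rw [hUA]
  refine ⟨hU4, fun h' => haU (hUA ▸ ⟨ha, h'⟩), fun x hx => ?_, h, ht⟩
  rw [← ht.sup, hCA] at hx
  obtain ⟨u, hu, w, hw, e⟩ := (SolvBasic.mem_sup_iff_of_le_normalizer (show zpowers a ≤ normalizer (U : Set G) from
    zpowers_le.2 (centralizer_le_normalizer _ (mem_centralizer_iff.2 fun y hy =>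
      hT.set.comm (ht.le hy) ha)))).1 hx
  rcases (hT.mem_zpowers_iff_eq ha).1 hw with rfl | rfl
  · exact ⟨u, hu, Or.inl (e.trans (mul_one u))⟩
  · exact ⟨u, hu, Or.inr e⟩

/-- `A` is central in `S`. -/
theorem central : (S : Subgroup G) ≤ cenS A := by
  classical
  intro s hs
  by_contra hns
  have hex : ∃ m : ℕ, s ^ 2 ^ m ∈ cenS A := by
    obtain ⟨k, hk⟩ := S.2 ⟨s, hs⟩
    exact ⟨k, by rw [show s ^ 2 ^ k = 1 from congrArg Subtype.val hk]; exact one_mem _⟩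
  obtain ⟨m, hm⟩ : ∃ m, Nat.find hex = m + 1 := ⟨Nat.find hex - 1, by
    have : Nat.find hex ≠ 0 := fun e => hns (by
      have := Nat.find_spec hex
      rwa [e, pow_zero, pow_one] at this)
    omega⟩
  set t := s ^ 2 ^ m with ht
  have htS : t ∈ (S : Subgroup G) := pow_mem hs _
  have htC : t ∉ cenS A := Nat.find_min hex (by omega)
  have ht2 : t * t ∈ cenS A := by
    have := Nat.find_spec hex
    rwa [hm, pow_succ, pow_mul, pow_two] at this
  obtain ⟨a, ha, hat⟩ : ∃ a ∈ A, a * t ≠ t * a := by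
    by_contra h
    push Not at h
    exact htC (mem_centralizer_iff.2 fun a ha => h a ha)
  have htN := hT.set.S_le_normalizer htS
  set b := t * a * t⁻¹ with hb
  have hbA : b ∈ A := (hT.set.conj_mem_iff htN).1 ha
  set c := a * b with hc
  have hcA : c ∈ A := mul_mem ha hbA
  have hc1 : c ≠ 1 := fun e => hat (by
    have : b = a := by rw [← inv_eq_of_mul_eq_one_right e, hT.set.inv_eq ha]
    rw [hb, mul_inv_eq_iff_eq_mul] at this
    exact this.symm)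
  have htc : t * c = c * t := by
    rw [← mul_inv_eq_iff_eq_mul]
    have h2 : t * t * a * (t * t)⁻¹ = a := by
      rw [← mem_centralizer_iff.1 ht2 a ha, mul_inv_cancel_right]
    calc t * c * t⁻¹ = (t * a * t⁻¹) * (t * t * a * (t * t)⁻¹) := by rw [hc, hb]; group
      _ = b * a := by rw [h2]
      _ = c := hT.set.comm hbA ha
  obtain ⟨L, hLm⟩ := hT.exists_moved hcA hc1
  obtain ⟨-, hcL, hdec, -⟩ := hT.part hcA hc1 hLm
  have htC' : t ∈ cenS (zpowers c) := mem_cenS_zpowers.2 htc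
  have hinv : ∀ u ∈ A ⊓ pre (zpowers c) L, t * u * t⁻¹ ∈ A ⊓ pre (zpowers c) L := fun u hu =>
    ⟨(hT.set.conj_mem_iff htN).1 hu.1,
      pre_conj_mem htC' (hT.normalizes (hT.set.loc_zpowers hcA hc1) hLm htC' htN) hu.2⟩
  apply hcL
  obtain ⟨u, hu, hau | hau⟩ := hdec a ha
  · have e : c = u * (t * u * t⁻¹) := by rw [hc, hb, hau]
    have := mul_mem hu.2 (hinv u hu).2
    rwa [← e] at this
  · have e : c = u * (t * u * t⁻¹) := by
      have hcc : t * c * t⁻¹ = c := by rw [htc, mul_inv_cancel_right]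
      have h1 : c = u * c * ((t * u * t⁻¹) * (t * c * t⁻¹)) := by
        calc c = a * (t * a * t⁻¹) := by rw [hc, hb]
          _ = u * c * (t * (u * c) * t⁻¹) := by rw [← hau]
          _ = _ := by group
      rw [hcc, hT.set.comm (hinv u hu).1 hcA, ← mul_assoc, mul_assoc u, hT.set.sq hcA, mul_one] at h1
      exact h1
    have := mul_mem hu.2 (hinv u hu).2
    rwa [← e] at this

theorem S_le_cenS {a : G} (ha : a ∈ A) : (S : Subgroup G) ≤ cenS (zpowers a) := fun _ hs =>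
  mem_cenS_zpowers.2 (mem_centralizer_iff.1 (hT.central hs) a ha).symm

/-- `S` normalises every moved component. -/
theorem S_normalizes {a : G} (ha : a ∈ A) (ha1 : a ≠ 1) {L : Subgroup (XB (zpowers a))}
    (hLm : Moved A (zpowers a) L) {s : G} (hs : s ∈ (S : Subgroup G)) :
    q (cenS (zpowers a)) ⟨s, hT.S_le_cenS ha hs⟩ ∈ normalizer (L : Set (XB (zpowers a))) :=
  hT.normalizes (hT.set.loc_zpowers ha ha1) hLm _ (hT.set.S_le_normalizer hs)

theorem conj_mem_pre {a : G} (ha : a ∈ A) (ha1 : a ≠ 1) {L : Subgroup (XB (zpowers a))}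
    (hLm : Moved A (zpowers a) L) {s x : G} (hs : s ∈ (S : Subgroup G)) (hx : x ∈ pre (zpowers a) L) :
    s * x * s⁻¹ ∈ pre (zpowers a) L :=
  pre_conj_mem _ (hT.S_normalizes ha ha1 hLm hs) hx

theorem conj_mem_fix1 {a : G} (ha : a ∈ A) (ha1 : a ≠ 1) {s x : G} (hs : s ∈ (S : Subgroup G))
    (hx : x ∈ fix1 A a) : s * x * s⁻¹ ∈ fix1 A a := by
  have h := hT.fix1_conj (hT.set.S_le_normalizer hs) ha ha1 hx
  rwa [← mem_centralizer_iff.1 (hT.central hs) a ha, mul_inv_cancel_right] at h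

/-- The frame of a moved component inside `S`. -/
theorem frame {a : G} (ha : a ∈ A) (ha1 : a ≠ 1) {L : Subgroup (XB (zpowers a))}
    (hLm : Moved A (zpowers a) L) :
    center ↥L = ⊥ ∧ (∀ t ∈ (S : Subgroup G) ⊓ pre (zpowers a) L, t * t = 1 → t ∈ A) ∧
      ((∀ t ∈ (S : Subgroup G) ⊓ pre (zpowers a) L, t * t = 1) ∨ UType ↥L) ∧
      ∃ T : Sylow 2 ↥L, (T : Subgroup ↥L) = (im (cenS (zpowers a)) (S : Subgroup G)).subgroupOf L ∧
        Nonempty (↥((S : Subgroup G) ⊓ pre (zpowers a) L) ≃* ↥(T : Subgroup ↥L)) := by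
  obtain ⟨-, -, -, h, ht⟩ := hT.part ha ha1 hLm
  have hSC := hT.S_le_cenS ha
  have hmap : ((S.subtype hSC : Sylow 2 ↥(cenS (zpowers a))) : Subgroup ↥(cenS (zpowers a))).map
      (cenS (zpowers a)).subtype = (S : Subgroup G) := by
    rw [Sylow.coe_subtype, map_subgroupOf_eq_of_le hSC]
  obtain ⟨T, hTe, hZ, hinv, hd⟩ := hT.shape ha ha1 hLm ht (S.subtype hSC) (by rw [hmap]; exact hT.set.le)
  rw [hmap] at hTe
  have hmem : ∀ t ∈ (S : Subgroup G) ⊓ pre (zpowers a) L, ∃ htC : t ∈ cenS (zpowers a),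
      ∃ htL : q (cenS (zpowers a)) ⟨t, htC⟩ ∈ L, (⟨_, htL⟩ : ↥L) ∈ (T : Subgroup ↥L) := fun t ht' => by
    obtain ⟨htC, htL⟩ := mem_pre.1 ht'.2
    exact ⟨htC, htL, hTe ▸ mem_subgroupOf.2 (mem_im ht'.1 htC)⟩
  let f : ↥((S : Subgroup G) ⊓ pre (zpowers a) L) →* ↥(T : Subgroup ↥L) :=
    MonoidHom.mk' (fun t => ⟨⟨_, (hmem t t.2).2.1⟩, (hmem t t.2).2.2⟩) fun x y =>
      Subtype.ext (Subtype.ext (map_mul (q (cenS (zpowers a))) ⟨x, (hmem x x.2).1⟩ ⟨y, (hmem y y.2).1⟩))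
  have hf : Function.Bijective f := by
    refine ⟨fun x y e => Subtype.ext (eq_of_q S.2 x.2.1 y.2.1 (hmem x x.2).1 (hmem y y.2).1
      (congrArg (fun z : (T : Subgroup ↥L) => ((z : ↥L) : XB (zpowers a))) e)), fun y => ?_⟩
    have hy := y.2
    simp only [hTe, mem_subgroupOf] at hy
    obtain ⟨⟨x, hxC⟩, hx, hxy⟩ := hy
    exact ⟨⟨x, hx, mem_pre.2 ⟨hxC, by rw [hxy]; exact (y : ↥L).2⟩⟩, Subtype.ext (Subtype.ext hxy)⟩
  refine ⟨hZ, fun t ht' htt => ?_, hd.imp_left (fun hE t ht' => ?_), T, hTe, ⟨MulEquiv.ofBijective f hf⟩⟩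
  · obtain ⟨u, huC, hu, e⟩ := hinv _ (f ⟨t, ht'⟩).2 (congrArg Subtype.val
      (show f ⟨t, ht'⟩ * f ⟨t, ht'⟩ = 1 by
        rw [← map_mul, show (⟨t, ht'⟩ : ↥((S : Subgroup G) ⊓ pre (zpowers a) L)) * ⟨t, ht'⟩ = 1 from
          Subtype.ext htt, map_one]))
    exact eq_of_q S.2 ht'.1 (hT.set.le hu.1) (hmem t ht').1 huC e ▸ hu.1
  · refine congrArg Subtype.val (hf.1 (show f (⟨t, ht'⟩ * ⟨t, ht'⟩) = f 1 from ?_))
    rw [map_mul, map_one]
    exact Subtype.ext (hE _ (f ⟨t, ht'⟩).2)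

/-- An element of `S` acting on a moved component as an inner automorphism is in the product of the Sylow part
and the centraliser. -/
theorem inner_mem {a : G} (ha : a ∈ A) (ha1 : a ≠ 1) {L : Subgroup (XB (zpowers a))}
    (hLm : Moved A (zpowers a) L) {s : G} (hs : s ∈ (S : Subgroup G)) {k : ↥L}
    (hk : ∀ l ∈ L, q (cenS (zpowers a)) ⟨s, hT.S_le_cenS ha hs⟩ * l *
      (q (cenS (zpowers a)) ⟨s, hT.S_le_cenS ha hs⟩)⁻¹ = k * l * (k : XB (zpowers a))⁻¹) :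
    ∃ t ∈ (S : Subgroup G) ⊓ pre (zpowers a) L, t⁻¹ * s ∈ fix1 A a := by
  haveI : Fact (Nat.Prime 2) := ⟨Nat.prime_two⟩
  obtain ⟨hZ, -, -, T, hTe, -⟩ := hT.frame ha ha1 hLm
  set sb := q (cenS (zpowers a)) ⟨s, hT.S_le_cenS ha hs⟩ with hsb
  have hpow : ∀ (n : ℕ), ∀ l ∈ L, sb ^ n * l * (sb ^ n)⁻¹ = ((k ^ n : ↥L) : XB (zpowers a)) * l *
      (((k ^ n : ↥L) : XB (zpowers a)))⁻¹ := by
    intro n
    induction n with
    | zero => intro l _; simp
    | succ n ih =>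
      intro l hl
      rw [pow_succ, pow_succ, show sb ^ n * sb * l * (sb ^ n * sb)⁻¹ =
        sb ^ n * (sb * l * sb⁻¹) * (sb ^ n)⁻¹ by group, hk l hl,
        ih _ (mul_mem (mul_mem k.2 hl) (inv_mem k.2)), Subgroup.coe_mul]
      group
  obtain ⟨n, hn⟩ := S.2 ⟨s, hs⟩
  have hsn : sb ^ 2 ^ n = 1 := by
    rw [hsb, ← map_pow, ← map_one (q (cenS (zpowers a)))]
    exact congrArg _ (Subtype.ext (show s ^ 2 ^ n = 1 from congrArg Subtype.val hn))
  have hkn : k ^ 2 ^ n = 1 := by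
    have hc : k ^ 2 ^ n ∈ center ↥L := mem_center_iff.2 fun l => Subtype.ext (by
      have h1 := hpow (2 ^ n) l l.2
      rw [hsn, one_mul, inv_one, mul_one, eq_mul_inv_iff_mul_eq] at h1
      exact h1)
    rwa [hZ, mem_bot] at hc
  have hkN : k ∈ normalizer ((T : Subgroup ↥L) : Set ↥L) := by
    rw [← LEBasic.map_conj_eq_iff_mem_normalizer]
    refine eq_of_le_of_card_ge ?_ (LEBasic.card_map_conj _ k).ge
    rintro _ ⟨x, hx, rfl⟩
    have hx' : x ∈ (T : Subgroup ↥L) := hx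
    rw [hTe, mem_subgroupOf] at hx' ⊢
    obtain ⟨⟨y, hyC⟩, hy, hyx⟩ := hx'
    show (k : XB (zpowers a)) * x * (k : XB (zpowers a))⁻¹ ∈ im _ _
    rw [← hk x x.2, ← hyx, hsb, ← map_inv, ← map_mul, ← map_mul]
    exact mem_im (mul_mem (mul_mem hs hy) (inv_mem hs)) _
  have hkT : k ∈ (T : Subgroup ↥L) := by
    have hP : IsPGroup 2 (zpowers k) := by
      obtain ⟨i, -, hi⟩ := (Nat.dvd_prime_pow Nat.prime_two).1 (orderOf_dvd_of_pow_eq_one hkn)
      exact IsPGroup.of_card (n := i) (by rw [Nat.card_zpowers, hi])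
    have h1 := T.is_maximal' (IsPGroup.to_sup_of_normal_right' hP T.2 (zpowers_le.2 hkN)) le_sup_right
    exact h1 ▸ le_sup_left (a := zpowers k) (mem_zpowers k)
  rw [hTe, mem_subgroupOf] at hkT
  obtain ⟨⟨t, htC⟩, ht, htk⟩ := hkT
  refine ⟨t, ⟨ht, mem_pre.2 ⟨htC, by rw [htk]; exact k.2⟩⟩, (hT.mem_fix1' ha ha1 hLm).2
    ⟨mul_mem (inv_mem (hT.central ht)) (hT.central hs),
      mem_pre.2 ⟨mul_mem (inv_mem htC) (hT.S_le_cenS ha hs), mem_centralizer_iff.2 fun l hl => ?_⟩⟩⟩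
  show l * q (cenS (zpowers a)) (⟨t, htC⟩⁻¹ * ⟨s, hT.S_le_cenS ha hs⟩) =
    q (cenS (zpowers a)) (⟨t, htC⟩⁻¹ * ⟨s, hT.S_le_cenS ha hs⟩) * l
  rw [map_mul, map_inv, htk, ← hsb]
  calc l * ((k : XB (zpowers a))⁻¹ * sb) = (k : XB (zpowers a))⁻¹ * (k * l * (k : XB (zpowers a))⁻¹) * sb := by group
    _ = (k : XB (zpowers a))⁻¹ * (sb * l * sb⁻¹) * sb := by rw [hk l hl]
    _ = (k : XB (zpowers a))⁻¹ * sb * l := by group

end Cfg3

end Cfsg.Agent.Gold1169
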