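import Cfsg.Agent.Lib.Gold1169.Three.Basic

/-!
Rank three: 2-subgroups over `A`, uniqueness of the moved component, and transport by `N(A)`.
-/

set_option autoImplicit false
set_option linter.style.haveILetI false
set_option linter.unusedSectionVars false

namespace Cfsg.Agent.Gold1169

open Subgroup
open Cfsg.Agent.Walter4 (cen cenS ocen cor XB pre CA Good mem_pre cor_zpowers map_pre_conj pre_le)
open Cfsg.Agent.OddDown.CoreSep (q im mem_im)
open scoped commutatorElement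

universe u

attribute [local instance] FittingCores.pPrimeCore_normal

variable {G : Type u} [Group G] [Finite G]

/-- A 2-subgroup meets a core trivially. -/
theorem eq_one_of_cor {B Q : Subgroup G} (hQ : IsPGroup 2 Q) {x : G} (hx : x ∈ Q) (h : x ∈ cor B) : x = 1 := by
  haveI : Fact (Nat.Prime 2) := ⟨Nat.prime_two⟩
  exact PBasic.eq_one_of_isPGroup_of_coprime hQ hx
    (PBasic.coprime_orderOf_of_mem (Walter4.cor_coprime B) h)

/-- A 2-subgroup embeds in `C(B) ⧸ O(C(B))`. -/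
theorem eq_one_of_q {B Q : Subgroup G} (hQ : IsPGroup 2 Q) {x : G} (hx : x ∈ Q) (hxC : x ∈ cenS B)
    (h : q (cenS B) ⟨x, hxC⟩ = 1) : x = 1 :=
  eq_one_of_cor hQ hx ((q_eq_one hxC).1 h)

theorem eq_of_q {B Q : Subgroup G} (hQ : IsPGroup 2 Q) {x y : G} (hx : x ∈ Q) (hy : y ∈ Q)
    (hxC : x ∈ cenS B) (hyC : y ∈ cenS B) (h : q (cenS B) ⟨x, hxC⟩ = q (cenS B) ⟨y, hyC⟩) : x = y := by
  refine inv_mul_eq_one.1 (eq_one_of_q hQ (mul_mem (inv_mem hx) hy) (mul_mem (inv_mem hxC) hyC) ?_)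
  show q (cenS B) (⟨x, hxC⟩⁻¹ * ⟨y, hyC⟩) = 1
  rw [map_mul, map_inv, h, inv_mul_cancel]

theorem mem_cenS_zpowers {a x : G} : x ∈ cenS (zpowers a) ↔ x * a = a * x := by
  rw [cenS, zpowers_eq_closure, centralizer_closure, mem_centralizer_singleton_iff]

theorem cenS_zpowers_conj {n a : G} (x : G) :
    x ∈ cenS (zpowers a) ↔ n * x * n⁻¹ ∈ cenS (zpowers (n * a * n⁻¹)) := by
  rw [mem_cenS_zpowers, mem_cenS_zpowers, conj_mul, conj_mul]
  exact ⟨fun h => by rw [h], fun h => mul_left_cancel (mul_right_cancel h)⟩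

namespace Setup

variable {S : Sylow 2 G} {A : Subgroup G} (hS : Setup S A)
include hS

/-- A 2-subgroup containing `A` is conjugate into `S` by `N(A)`. -/
theorem sylow_conj {Q : Subgroup G} (hQ : IsPGroup 2 Q) (hAQ : A ≤ Q) :
    ∃ n ∈ normalizer (A : Set G), ∀ y ∈ Q, n * y * n⁻¹ ∈ (S : Subgroup G) := by
  haveI : Fact (Nat.Prime 2) := ⟨Nat.prime_two⟩
  obtain ⟨P, hP⟩ := hQ.exists_le_sylow
  obtain ⟨g, hg⟩ := MulAction.exists_smul_eq G P S
  have hgS : ∀ y ∈ Q, g * y * g⁻¹ ∈ (S : Subgroup G) := fun y hy => by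
    rw [← hg, Sylow.coe_subgroup_smul]
    exact ⟨y, hP hy, rfl⟩
  refine ⟨g, ?_, hgS⟩
  rw [← LEBasic.map_conj_eq_iff_mem_normalizer]
  refine eq_of_le_of_card_ge ?_ (LEBasic.card_map_conj A g).ge
  rintro _ ⟨a, ha, rfl⟩
  exact hS.closed.2 a ha g (hgS a (hAQ ha))

/-- `A` is strongly closed in every 2-subgroup containing it. -/
theorem closed_two {Q : Subgroup G} (hQ : IsPGroup 2 Q) (hAQ : A ≤ Q) {a g : G} (ha : a ∈ A)
    (h : g * a * g⁻¹ ∈ Q) : g * a * g⁻¹ ∈ A := by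
  obtain ⟨n, hn, hnS⟩ := hS.sylow_conj hQ hAQ
  refine (hS.conj_mem_iff hn).2 ?_
  have h1 := hnS _ h
  rw [show n * (g * a * g⁻¹) * n⁻¹ = n * g * a * (n * g)⁻¹ by group] at h1 ⊢
  exact hS.closed.2 a ha _ h1

/-- The image of `A` is strongly closed in the image of a 2-subgroup. -/
theorem closed_im {B : Subgroup G} (hB : Loc A B) {Q : Subgroup G} (hQ : IsPGroup 2 Q) (hAQ : A ≤ Q)
    (_hQB : Q ≤ cenS B) {v : G} (hv : v ∈ A) {c : XB B}
    (h : c * q (cenS B) ⟨v, hB.le_cen hv⟩ * c⁻¹ ∈ im (cenS B) Q) :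
    c * q (cenS B) ⟨v, hB.le_cen hv⟩ * c⁻¹ ∈ im (cenS B) A := by
  obtain ⟨⟨c', hc'⟩, rfl⟩ := QuotientGroup.mk'_surjective _ c
  obtain ⟨⟨y, hyC⟩, hy, hyq⟩ := h
  have hy' : y ∈ Q := hy
  rw [← hyq]
  refine mem_im ?_ hyC
  set x := c' * v * c'⁻¹ with hx
  have hxC : x ∈ cenS B := mul_mem (mul_mem hc' (hB.le_cen hv)) (inv_mem hc')
  have hq : q (cenS B) ⟨y, hyC⟩ = q (cenS B) ⟨x, hxC⟩ := by
    rw [hyq, ← map_inv, ← map_mul, ← map_mul]
    rfl
  have hx2 : x * x = 1 := by rw [hx, conj_mul, hS.sq hv, mul_one, mul_inv_cancel]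
  have hy2 : y * y = 1 := by
    refine eq_one_of_q hQ (mul_mem hy' hy') (mul_mem hyC hyC) ?_
    show q (cenS B) (⟨y, hyC⟩ * ⟨y, hyC⟩) = 1
    rw [map_mul, hq, ← map_mul, show (⟨x, hxC⟩ : cenS B) * ⟨x, hxC⟩ = 1 from Subtype.ext hx2, map_one]
  set o := x * y⁻¹ with ho
  have hoc : o ∈ cor B := by
    refine (q_eq_one (mul_mem hxC (inv_mem hyC))).1 ?_
    show q (cenS B) (⟨x, hxC⟩ * ⟨y, hyC⟩⁻¹) = 1
    rw [map_mul, map_inv, hq, mul_inv_cancel]
  obtain ⟨k, hk⟩ := Walter4.orderOf_odd_of_cor hoc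
  set p := o ^ (k + 1) with hp
  have hyo : y * o * y⁻¹ = o⁻¹ := by
    have hyi : y⁻¹ = y := inv_eq_of_mul_eq_one_right hy2
    have hxi : x⁻¹ = x := inv_eq_of_mul_eq_one_right hx2
    rw [ho, mul_inv_rev, inv_inv, hxi, hyi, mul_assoc, mul_assoc x, hy2, mul_one]
  have hp2 : p * p = o := by
    rw [hp, ← pow_add, show k + 1 + (k + 1) = (2 * k + 1) + 1 by omega, pow_succ, ← hk,
      pow_orderOf_eq_one, one_mul]
  have hyp : y * p * y⁻¹ = p⁻¹ := by rw [hp, ← conj_pow, hyo, inv_pow]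
  have hyeq : y = (p⁻¹ * c') * v * (p⁻¹ * c')⁻¹ := by
    have e : x = p * y * p⁻¹ := by
      calc x = o * y := by rw [ho, inv_mul_cancel_right]
        _ = p * (y * p⁻¹ * y⁻¹) * y := by
          rw [show y * p⁻¹ * y⁻¹ = (y * p * y⁻¹)⁻¹ by group, hyp, inv_inv, hp2]
        _ = p * y * p⁻¹ := by group
    calc y = p⁻¹ * (p * y * p⁻¹) * p := by group
      _ = p⁻¹ * x * p := by rw [← e]
      _ = _ := by rw [hx]; group
  rw [hyeq] at hy' ⊢
  exact hS.closed_two hQ hAQ hv hy'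

/-- A Sylow subgroup of `C(B)` over `A`. -/
theorem exists_sylow {B : Subgroup G} (hB : Loc A B) :
    ∃ Q : Sylow 2 ↥(cenS B), A ≤ (Q : Subgroup ↥(cenS B)).map (cenS B).subtype := by
  haveI : Fact (Nat.Prime 2) := ⟨Nat.prime_two⟩
  obtain ⟨Q, hQ⟩ := (hS.isPGroup.comap_of_injective (cenS B).subtype (cenS B).subtype_injective).exists_le_sylow
  exact ⟨Q, fun a ha => ⟨⟨a, hB.le_cen ha⟩, hQ ha, rfl⟩⟩

theorem card_XB_lt {B : Subgroup G} (hB : Loc A B) : Nat.card (XB B) < Nat.card G := by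
  refine lt_of_le_of_lt (Nat.le_of_dvd Nat.card_pos (Subgroup.card_quotient_dvd_card _)) ?_
  obtain ⟨b, hb, hb1⟩ := B.bot_or_exists_ne_one.resolve_left hB.2.1
  refine lt_of_le_of_ne (Subgroup.card_le_card_group _) fun h => hS.cen_ne_top hb1 ?_
  rw [eq_top_iff, ← Subgroup.eq_top_of_card_eq _ h]
  exact centralizer_le (Set.singleton_subset_iff.2 hb)

end Setup

namespace Cfg3

variable {S : Sylow 2 G} {A : Subgroup G} (hT : Cfg3 S A)
include hT

theorem CA_le_two {B : Subgroup G} (hB : Loc A B) {L : Subgroup (XB B)} (hLm : Moved A B L) :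
    Nat.card (CA A B L) ≤ 2 := by
  obtain ⟨U, h, ht⟩ := hT.loc.torus B hB L hLm
  have hm := torus_card hT.set.ea ht
  rw [hT.card] at hm
  have := ht.four
  nlinarith

/-- A moved component is unique. -/
theorem unique {B : Subgroup G} (hB : Loc A B) {L M : Subgroup (XB B)} (hLm : Moved A B L)
    (hM : Moved A B M) : L = M := by
  by_contra hne
  obtain ⟨U, h, ht⟩ := hT.loc.torus B hB L hLm
  have := (card_le_of_le (hT.loc.orth B hB L M hLm hM.1 hne U h ht)).trans (hT.CA_le_two hB hM)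
  have := ht.four
  omega

/-- An element of `N(A) ∩ C(B)` normalises the moved component. -/
theorem normalizes {B : Subgroup G} (hB : Loc A B) {L : Subgroup (XB B)} (hLm : Moved A B L) {x : G}
    (hxC : x ∈ cenS B) (hxN : x ∈ normalizer (A : Set G)) :
    q (cenS B) ⟨x, hxC⟩ ∈ normalizer (L : Set (XB B)) := by
  set g := q (cenS B) ⟨x, hxC⟩ with hg
  rw [← LEBasic.map_conj_eq_iff_mem_normalizer]
  refine hT.unique hB ⟨Components.component_conj hLm.1 g, fun hfix => hLm.2 fun l hl => ?_⟩ hLm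
  refine mem_centralizer_iff.2 ?_
  rintro _ ⟨⟨a, haC⟩, ha, rfl⟩
  have hb : x * a * x⁻¹ ∈ A := (hT.set.conj_mem_iff hxN).1 ha
  have h1 := mem_centralizer_iff.1 (hfix ⟨l, hl, rfl⟩) _ (mem_im hb (hB.le_cen hb))
  have e : q (cenS B) ⟨x * a * x⁻¹, hB.le_cen hb⟩ = g * q (cenS B) ⟨a, haC⟩ * g⁻¹ := by
    rw [hg, ← map_inv, ← map_mul, ← map_mul]
    rfl
  rw [e] at h1
  simp only [MulEquiv.coe_toMonoidHom, MulAut.conj_apply, conj_mul] at h1
  exact mul_left_cancel (mul_right_cancel h1)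

/-- Each involution of `A` has a moved component in its centraliser. -/
theorem exists_moved {a : G} (ha : a ∈ A) (ha1 : a ≠ 1) :
    ∃ L : Subgroup (XB (zpowers a)), Moved A (zpowers a) L := by
  obtain ⟨c, hc, hc1, L, hLm⟩ := hT.moved
  obtain ⟨n, hn, rfl⟩ := hT.trans hc hc1 ha ha1
  have h := hT.set.moved_conj hn hLm
  rw [MonoidHom.map_zpowers, show (MulAut.conj n).toMonoidHom c = n * c * n⁻¹ from rfl] at h
  obtain ⟨L', h', -⟩ := h
  exact ⟨L', h'⟩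

/-- Conjugation by `N(A)` carries moved components along, with their preimages. -/
theorem transport {n : G} (hn : n ∈ normalizer (A : Set G)) {B B' : Subgroup G}
    (hcen : ∀ x, x ∈ cenS B ↔ n * x * n⁻¹ ∈ cenS B') {L : Subgroup (XB B)} (hLm : Moved A B L) :
    ∃ L' : Subgroup (XB B'), Moved A B' L' ∧ Nonempty (↥L ≃* ↥L') ∧
      (∀ x, x ∈ pre B L ↔ n * x * n⁻¹ ∈ pre B' L') ∧
      ∀ x, x ∈ pre B (centralizer (L : Set (XB B))) ↔ n * x * n⁻¹ ∈ pre B' (centralizer (L' : Set (XB B'))) := by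
  obtain ⟨f, hf⟩ := map_pre_conj hcen
  refine ⟨L.map f.toMonoidHom, ⟨Components.component_map_equiv f hLm.1, fun h' => hLm.2 ?_⟩,
    ⟨equivMapOfInjective L f.toMonoidHom f.injective⟩, fun x => (hf L x).symm, fun x => ?_⟩
  · rw [fixes_iff] at h' ⊢
    rintro a ⟨ha, ha'⟩
    rw [← hf, Components.map_centralizer_equiv]
    exact h' ⟨(hT.set.conj_mem_iff hn).1 ha, (hcen a).1 ha'⟩
  · rw [← Components.map_centralizer_equiv f L]
    exact (hf _ x).symm

theorem mem_fix1' {a : G} (ha : a ∈ A) (ha1 : a ≠ 1) {L : Subgroup (XB (zpowers a))}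
    (hLm : Moved A (zpowers a) L) {w : G} :
    w ∈ fix1 A a ↔ w ∈ cenS A ∧ w ∈ pre (zpowers a) (centralizer (L : Set (XB (zpowers a)))) := by
  rw [mem_fix1]
  exact ⟨fun h => ⟨h.1, h.2 L hLm⟩, fun h => ⟨h.1, fun M hM =>
    hT.unique (hT.set.loc_zpowers ha ha1) hLm hM ▸ h.2⟩⟩

theorem cenA_conj {n : G} (hn : n ∈ normalizer (A : Set G)) {w : G} (hw : w ∈ cenS A) :
    n * w * n⁻¹ ∈ cenS A := mem_centralizer_iff.2 fun b hb => by
  have h := mem_centralizer_iff.1 hw (n⁻¹ * b * n) ((hT.set.conj_mem_iff hn).2 (by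
    rwa [show n * (n⁻¹ * b * n) * n⁻¹ = b by group]))
  calc b * (n * w * n⁻¹) = n * (n⁻¹ * b * n * w) * n⁻¹ := by group
    _ = n * (w * (n⁻¹ * b * n)) * n⁻¹ := by rw [h]
    _ = n * w * n⁻¹ * b := by group

theorem fix1_conj {n : G} (hn : n ∈ normalizer (A : Set G)) {a : G} (ha : a ∈ A) (ha1 : a ≠ 1) {w : G}
    (hw : w ∈ fix1 A a) : n * w * n⁻¹ ∈ fix1 A (n * a * n⁻¹) := by
  obtain ⟨L, hLm⟩ := hT.exists_moved ha ha1
  obtain ⟨L', hL', -, -, hc⟩ := hT.transport hn (B' := zpowers (n * a * n⁻¹)) (cenS_zpowers_conj) hLm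
  rw [hT.mem_fix1' ha ha1 hLm] at hw
  rw [hT.mem_fix1' ((hT.set.conj_mem_iff hn).1 ha) (fun e => ha1 (conj_eq_one_iff.1 e)) hL']
  exact ⟨hT.cenA_conj hn hw.1, (hc w).1 hw.2⟩

theorem uni_conj {n : G} (hn : n ∈ normalizer (A : Set G)) {w : G} (hw : w ∈ uni A) :
    n * w * n⁻¹ ∈ uni A := by
  rw [mem_uni] at hw ⊢
  refine ⟨hT.cenA_conj hn hw.1, fun b hb hb1 => ?_⟩
  have hb' : n⁻¹ * b * n ∈ A := (hT.set.conj_mem_iff hn).2 (by
    rwa [show n * (n⁻¹ * b * n) * n⁻¹ = b by group])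
  have h := hT.fix1_conj hn hb' (fun e => hb1 (by
    rw [show b = n * (n⁻¹ * b * n) * n⁻¹ by group, e, mul_one, mul_inv_cancel])) (hw.2 _ hb'
      (fun e => hb1 (by rw [show b = n * (n⁻¹ * b * n) * n⁻¹ by group, e, mul_one, mul_inv_cancel])))
  rwa [show n * (n⁻¹ * b * n) * n⁻¹ = b by group] at h

/-- An element of `A` fixing the moved component at `a` is a power of `a`. -/
theorem mem_zpowers_of_fix1 {a u : G} (ha : a ∈ A) (ha1 : a ≠ 1) (hu : u ∈ A) (h : u ∈ fix1 A a) :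
    u ∈ zpowers a := by
  obtain ⟨L, hLm⟩ := hT.exists_moved ha ha1
  obtain ⟨U, t, ht⟩ := hT.loc.torus _ (hT.set.loc_zpowers ha ha1) L hLm
  rw [← (hT.torus_at ha ha1 hLm ht).2.1]
  exact ⟨hu, ((hT.mem_fix1' ha ha1 hLm).1 h).2⟩

theorem mem_zpowers_iff_eq {a u : G} (ha : a ∈ A) : u ∈ zpowers a ↔ u = 1 ∨ u = a := by
  refine ⟨fun h => ?_, ?_⟩
  · obtain ⟨i, rfl⟩ := mem_zpowers_iff.1 h
    rcases Int.even_or_odd i with ⟨j, rfl⟩ | ⟨j, rfl⟩
    · left; rw [← two_mul, zpow_mul, zpow_two, hT.set.sq ha, one_zpow]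
    · right; rw [zpow_add, zpow_mul, zpow_two, hT.set.sq ha, one_zpow, one_mul, zpow_one]
  · rintro (rfl | rfl)
    · exact one_mem _
    · exact mem_zpowers _

theorem eq_one_of_mem_two {a b u : G} (ha : a ∈ A) (hb : b ∈ A) (hab : a ≠ b) (hua : u ∈ zpowers a)
    (hub : u ∈ zpowers b) : u = 1 := by
  rcases (hT.mem_zpowers_iff_eq ha).1 hua with h | h
  · exact h
  rcases (hT.mem_zpowers_iff_eq hb).1 hub with h' | h'
  · exact h'
  · exact absurd (h ▸ h') hab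

/-- Besides any involution of `A` there is another. -/
theorem exists_ne (a : G) : ∃ b ∈ A, b ≠ 1 ∧ b ≠ a := by
  by_contra h
  push Not at h
  have hsub : (A : Set G) ⊆ {1, a} := fun x hx => by
    by_cases h1 : x = 1
    · exact Or.inl h1
    · exact Or.inr (h x hx h1)
  have h2 := Set.ncard_le_ncard hsub
  have h3 : (A : Set G).ncard = 8 := by rw [← Nat.card_coe_set_eq, SetLike.coe_sort_coe, hT.card]
  have h4 := Set.ncard_insert_le (1 : G) {a}
  rw [Set.ncard_singleton] at h4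
  omega

theorem eq_one_of_uni {u : G} (hu : u ∈ A) (h : u ∈ uni A) : u = 1 := by
  obtain ⟨a, ha, ha1, -⟩ := hT.exists_ne 1
  obtain ⟨b, hb, hb1, hba⟩ := hT.exists_ne a
  exact hT.eq_one_of_mem_two ha hb hba.symm (hT.mem_zpowers_of_fix1 ha ha1 hu ((mem_uni.1 h).2 a ha ha1))
    (hT.mem_zpowers_of_fix1 hb hb1 hu ((mem_uni.1 h).2 b hb hb1))

end Cfg3

end Cfsg.Agent.Gold1169
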