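import Cfsg.Agent.Lib.Gold1169.Three.Unitary
import Cfsg.Agent.S4593

/-!
Rank three: `S` is `A` times the elements centralising every moved component, and these contain a four-group
with an involution central in `S`.
-/

set_option autoImplicit false
set_option linter.style.haveILetI false
set_option linter.unusedSectionVars false

namespace Cfsg.Agent.Gold1169

open Subgroup
open Cfsg.Agent.Walter4 (cen cenS ocen cor XB pre CA Good mem_pre pre_le)
open Cfsg.Agent.OddDown.CoreSep (q im mem_im)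
open scoped commutatorElement

universe u

attribute [local instance] FittingCores.pPrimeCore_normal

/-- A 2-element centralising an abelian Sylow 2-subgroup of a component with trivial centre acts on it as an
element of that subgroup. -/
theorem inner_of_abelian {H : Type u} [Group H] [Finite H] (hcore : Cfsg.pPrimeCore 2 H = ⊥) {L : Subgroup H}
    (hL : Cfsg.IsComponent L) (hZ : center ↥L = ⊥) (T : Sylow 2 ↥L)
    (hab : ∀ x ∈ (T : Subgroup ↥L), ∀ y ∈ (T : Subgroup ↥L), x * y = y * x) {g : H}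
    (hg : g ∈ normalizer (L : Set H)) {n : ℕ} (hgn : g ^ 2 ^ n = 1)
    (hfix : ∀ x ∈ (T : Subgroup ↥L), g * (x : H) = (x : H) * g) :
    ∃ k ∈ (T : Subgroup ↥L), ∀ l ∈ L, g * l * g⁻¹ = k * l * (k : H)⁻¹ := by
  haveI : Fact (Nat.Prime 2) := ⟨Nat.prime_two⟩
  haveI : IsMulCommutative ↥(T : Subgroup ↥L) := ⟨⟨fun a b => Subtype.ext (hab a a.2 b b.2)⟩⟩
  have hcoreL : Cfsg.pPrimeCore 2 ↥L = ⊥ := by
    rw [← map_eq_bot_iff_of_injective _ L.subtype_injective, ← le_bot_iff, ← hcore]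
    refine Components.subnormal_le_pPrimeCore
      ((Cfsg.pPrimeCore_normal 2 ↥L).isSubnormal.trans' hL.1) ?_
    rw [card_map_of_injective L.subtype_injective]
    exact PBasic.pPrimeCore_coprime 2 ↥L
  set α := L.normalizerMonoidHom ⟨g, hg⟩ with hα
  have hαv : ∀ l : ↥L, ((α l : ↥L) : H) = g * l * g⁻¹ := fun l => rfl
  have hαn : α ^ 2 ^ n = 1 := by
    rw [hα, ← map_pow, show (⟨g, hg⟩ : ↥(normalizer (L : Set H))) ^ 2 ^ n = 1 from Subtype.ext hgn, map_one]
  obtain ⟨j, -, hj⟩ := (Nat.dvd_prime_pow Nat.prime_two).1 (orderOf_dvd_of_pow_eq_one hαn)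
  obtain ⟨k, hk⟩ := S4593.result hZ hcoreL T ‹_› α ⟨j, hj⟩ fun x hx => Subtype.ext (by
    rw [hαv, hfix x hx, mul_inv_cancel_right])
  have hkconj : α = MulAut.conj k := MulEquiv.ext hk
  have hk2 : k ^ 2 ^ n = 1 := by
    rw [hkconj, ← map_pow] at hαn
    rw [← mem_bot, ← hZ]
    refine mem_center_iff.2 fun l => ?_
    have h1 := DFunLike.congr_fun hαn l
    rw [MulAut.conj_apply, MulAut.one_apply, mul_inv_eq_iff_eq_mul] at h1
    exact h1.symm
  refine ⟨k, ?_, fun l hl => ?_⟩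
  · have hP : IsPGroup 2 (zpowers k) := by
      obtain ⟨i, -, hi⟩ := (Nat.dvd_prime_pow Nat.prime_two).1 (orderOf_dvd_of_pow_eq_one hk2)
      exact IsPGroup.of_card (n := i) (by rw [Nat.card_zpowers, hi])
    have hle : zpowers k ≤ normalizer ((T : Subgroup ↥L) : Set ↥L) := zpowers_le.2
      (centralizer_le_normalizer _ (mem_centralizer_iff.2 fun x hx => Subtype.ext (by
        have h := congrArg Subtype.val (hk x)
        rw [hαv, hfix x hx, mul_inv_cancel_right] at h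
        simp only [Subgroup.coe_mul, Subgroup.coe_inv] at h
        rw [eq_mul_inv_iff_mul_eq] at h
        exact h)))
    have h1 := T.is_maximal' (IsPGroup.to_sup_of_normal_right' hP T.2 hle) le_sup_right
    exact h1 ▸ le_sup_left (a := zpowers k) (mem_zpowers k)
  · have h := congrArg Subtype.val (hk ⟨l, hl⟩)
    rw [hαv] at h
    exact h

variable {G : Type u} [Group G] [Finite G]

theorem ea_le_pgroup {Q : Subgroup G} {S : Sylow 2 G} (h : Q ≤ (S : Subgroup G)) : IsPGroup 2 Q :=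
  S.2.to_le h

namespace Cfg3

variable {S : Sylow 2 G} {A : Subgroup G} (hT : Cfg3 S A)
include hT

/-- The Sylow part of every moved component at an involution of `A` lies in `A`. -/
theorem part_le {a : G} (ha : a ∈ A) (ha1 : a ≠ 1) {L : Subgroup (XB (zpowers a))}
    (hLm : Moved A (zpowers a) L) : (S : Subgroup G) ⊓ pre (zpowers a) L ≤ A := by
  obtain ⟨-, hinv, hd, -⟩ := hT.frame ha ha1 hLm
  exact fun t ht => hinv t ht (hd.resolve_right (hT.no_utype ha ha1 hLm) t ht)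

/-- Each element of `S` acts on a moved component as an element of `A`. -/
theorem exists_fix {a : G} (ha : a ∈ A) (ha1 : a ≠ 1) {s : G} (hs : s ∈ (S : Subgroup G)) :
    ∃ u ∈ A, s * u ∈ fix1 A a := by
  obtain ⟨L, hLm⟩ := hT.exists_moved ha ha1
  obtain ⟨hZ, -, -, T, hTe, -⟩ := hT.frame ha ha1 hLm
  have hTA : ∀ x ∈ (T : Subgroup ↥L), ∃ u, ∃ hu : u ∈ cenS (zpowers a), u ∈ A ∧
      q (cenS (zpowers a)) ⟨u, hu⟩ = (x : XB (zpowers a)) := fun x hx => by
    rw [hTe, mem_subgroupOf] at hx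
    obtain ⟨⟨y, hyC⟩, hy, hyx⟩ := hx
    exact ⟨y, hyC, hT.part_le ha ha1 hLm ⟨hy, mem_pre.2 ⟨hyC, by rw [hyx]; exact x.2⟩⟩, hyx⟩
  obtain ⟨n, hn⟩ := S.2 ⟨s, hs⟩
  have hqn : (q (cenS (zpowers a)) ⟨s, hT.S_le_cenS ha hs⟩) ^ 2 ^ n = 1 := by
    rw [← map_pow, ← map_one (q (cenS (zpowers a)))]
    exact congrArg _ (Subtype.ext (show s ^ 2 ^ n = 1 from congrArg Subtype.val hn))
  obtain ⟨k, hkT, hk⟩ := inner_of_abelian (Components.pPrimeCore_quotient (p := 2) ↥(cenS (zpowers a))) hLm.1 hZ T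
    (fun x hx y hy => by
      obtain ⟨u, huC, hu, ex⟩ := hTA x hx
      obtain ⟨w, hwC, hw, ey⟩ := hTA y hy
      refine Subtype.ext ?_
      rw [Subgroup.coe_mul, Subgroup.coe_mul, ← ex, ← ey, ← map_mul, ← map_mul]
      exact congrArg _ (Subtype.ext (hT.set.comm hu hw)))
    (hT.S_normalizes ha ha1 hLm hs) hqn fun x hx => by
      obtain ⟨u, huC, hu, ex⟩ := hTA x hx
      rw [← ex, ← map_mul, ← map_mul]
      exact congrArg _ (Subtype.ext (mem_centralizer_iff.1 (hT.central hs) u hu).symm)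
  obtain ⟨t, ht, hts⟩ := hT.inner_mem ha ha1 hLm hs (k := k) hk
  have htA := hT.part_le ha ha1 hLm ht
  refine ⟨t, htA, ?_⟩
  rwa [hT.set.inv_eq htA, mem_centralizer_iff.1 (hT.central hs) t htA] at hts

/-- An element of `S` outside `A` fixing two moved components fixes all. -/
theorem uni_of_two {a b w : G} (ha : a ∈ A) (ha1 : a ≠ 1) (hb : b ∈ A) (hb1 : b ≠ 1) (hab : a ≠ b)
    (hw : w ∈ (S : Subgroup G)) (hwA : w ∉ A) (hwa : w ∈ fix1 A a) (hwb : w ∈ fix1 A b) : w ∈ uni A := by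
  have hw1 : w ≠ 1 := fun e => hwA (e ▸ one_mem A)
  have hwC := hT.central hw
  have hW : Loc A (zpowers w) := ⟨ea_le_pgroup (zpowers_le.2 hw), fun e => hw1 (zpowers_eq_bot.1 e),
    zpowers_le.2 hwC⟩
  have key : ∀ c ∈ A, c ≠ 1 → w ∈ fix1 A c →
      ∃ J : Subgroup (XB (zpowers w)), Moved A (zpowers w) J ∧ CA A (zpowers w) J ≤ zpowers c := by
    intro c hc hc1 hwc
    obtain ⟨L, hLm⟩ := hT.exists_moved hc hc1
    set B' := zpowers w ⊔ zpowers c with hB'
    have hB'S : B' ≤ (S : Subgroup G) := sup_le (zpowers_le.2 hw) (zpowers_le.2 (hT.set.le hc))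
    have hB'l : Loc A B' := ⟨ea_le_pgroup hB'S,
      fun e => hc1 (mem_bot.1 (e ▸ mem_sup_right (mem_zpowers c))), hB'S.trans hT.central⟩
    obtain ⟨L', hL', hCA, -, -⟩ := hT.loc.lift (zpowers c) B' (hT.set.loc_zpowers hc hc1) hB'l le_sup_right L hLm
      (sup_le (zpowers_le.2 ((hT.mem_fix1' hc hc1 hLm).1 hwc).2)
        ((le_CA (hT.set.loc_zpowers hc hc1) (zpowers_le.2 hc) L).trans inf_le_right))
    obtain ⟨U, h, ht⟩ := hT.loc.torus _ (hT.set.loc_zpowers hc hc1) L hLm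
    obtain ⟨J, hJ, hle, -⟩ := hT.loc.pump (zpowers w) B' hW hB'l le_sup_left (sup_le
      (zpowers_le.2 (mem_cenS_zpowers.2 rfl))
      (zpowers_le.2 (mem_cenS_zpowers.2 (mem_centralizer_iff.1 hwC c hc)))) L' hL'
    exact ⟨J, hJ, hle.trans (hCA.le.trans (hT.torus_at hc hc1 hLm ht).2.1.le)⟩
  obtain ⟨J, hJ, hJa⟩ := key a ha ha1 hwa
  obtain ⟨J', hJ', hJb⟩ := key b hb hb1 hwb
  rw [hT.unique hW hJ' hJ] at hJb
  obtain ⟨U, h, ht⟩ := hT.loc.torus _ hW J hJ
  have hCA : CA A (zpowers w) J = ⊥ :=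
    (eq_bot_iff_forall _).2 fun x hx => hT.eq_one_of_mem_two ha hb hab (hJa hx) (hJb hx)
  have hUA : U = A := by rw [← ht.sup, hCA, sup_bot_eq]
  have hhw : Commute h w := mem_cenS_zpowers.1 (pre_le ht.mem)
  refine mem_uni.2 ⟨hwC, fun c hc hc1 => ?_⟩
  obtain ⟨i, hi⟩ := ht.trans a (hUA.symm ▸ ha) ha1 c (hUA.symm ▸ hc) hc1
  have h1 := hT.fix1_conj (pow_mem ht.norm i) ha ha1 hwa
  rwa [hi, (hhw.pow_left i).eq, mul_inv_cancel_right] at h1

/-- `S` is `A` times the elements fixing every moved component. -/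
theorem split {s : G} (hs : s ∈ (S : Subgroup G)) : ∃ u ∈ A, s * u ∈ uni A := by
  classical
  by_cases hsA : s ∈ A
  · exact ⟨s, hsA, by rw [hT.set.sq hsA]; exact one_mem _⟩
  haveI : Fintype G := Fintype.ofFinite G
  have hex : ∀ c : {c : G // c ∈ A ∧ c ≠ 1}, ∃ u ∈ A, s * u ∈ fix1 A c := fun c => hT.exists_fix c.2.1 c.2.2 hs
  choose u huA huF using hex
  let f : {c : G // c ∈ A ∧ c ≠ 1} × Fin 2 → ↥A := fun p =>
    ⟨u p.1 * (p.1 : G) ^ (p.2 : ℕ), mul_mem (huA p.1) (pow_mem p.1.2.1 _)⟩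
  have hlt : Fintype.card ↥A < Fintype.card ({c : G // c ∈ A ∧ c ≠ 1} × Fin 2) := by
    have h8 : Fintype.card ↥A = 8 := by rw [← Nat.card_eq_fintype_card, hT.card]
    have h7 : Fintype.card {c : G // c ∈ A ∧ c ≠ 1} = 7 := by
      rw [← Fintype.card_congr (Equiv.subtypeSubtypeEquivSubtypeInter (fun c => c ∈ A) (fun c => c ≠ 1))]
      rw [Fintype.card_subtype_compl (fun c : {c // c ∈ A} => (c : G) = 1),
        show Fintype.card {c : {c // c ∈ A} // (c : G) = 1} = 1 from Fintype.card_eq_one_iff.2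
          ⟨⟨⟨1, one_mem A⟩, rfl⟩, fun y => Subtype.ext (Subtype.ext y.2)⟩]
      exact congrArg (· - 1) h8
    rw [Fintype.card_prod, Fintype.card_fin, h7, h8]
    norm_num
  obtain ⟨p, r, hne, he⟩ := Fintype.exists_ne_map_eq_of_card_lt f hlt
  have hmem : ∀ p : {c : G // c ∈ A ∧ c ≠ 1} × Fin 2, s * (f p : G) ∈ fix1 A (p.1 : G) := fun p => by
    show s * (u p.1 * (p.1 : G) ^ (p.2 : ℕ)) ∈ _
    rw [← mul_assoc]
    refine mul_mem (huF p.1) (pow_mem ?_ _)
    obtain ⟨L, hLm⟩ := hT.exists_moved p.1.2.1 p.1.2.2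
    exact (hT.mem_fix1' p.1.2.1 p.1.2.2 hLm).2 ⟨hT.set.le_cenS le_rfl p.1.2.1,
      (le_CA (hT.set.loc_zpowers p.1.2.1 p.1.2.2) (zpowers_le.2 p.1.2.1) L (mem_zpowers _)).2⟩
  have hpr : (p.1 : G) ≠ r.1 := fun e => hne (by
    have e1 : p.1 = r.1 := Subtype.ext e
    have he' : u p.1 * (p.1 : G) ^ (p.2 : ℕ) = u r.1 * (r.1 : G) ^ (r.2 : ℕ) := congrArg Subtype.val he
    rw [e1] at he'
    have h1 := mul_left_cancel he'
    refine Prod.ext e1 (Fin.ext ?_)
    have hp := p.2.isLt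
    have hr := r.2.isLt
    exact pow_injOn_Iio_orderOf (by rw [hT.set.orderOf_eq r.1.2.1 r.1.2.2]; exact hp)
      (by rw [hT.set.orderOf_eq r.1.2.1 r.1.2.2]; exact hr) h1)
  refine ⟨f p, (f p).2, hT.uni_of_two p.1.2.1 p.1.2.2 r.1.2.1 r.1.2.2 hpr
    (mul_mem hs (hT.set.le (f p).2)) (fun h => hsA ?_) (hmem p) (he.symm ▸ hmem r)⟩
  have := mul_mem h (inv_mem (f p).2)
  rwa [mul_inv_cancel_right] at this

/-- A four-group in `S` fixing every moved component, with an involution central in `S`. -/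
theorem exists_four : ∃ V : Subgroup G, V ≤ (S : Subgroup G) ∧ V ≤ uni A ∧ (∀ x ∈ V, x * x = 1) ∧
    (∀ x ∈ V, ∀ y ∈ V, x * y = y * x) ∧ 4 ≤ Nat.card V := by
  haveI : Fact (Nat.Prime 2) := ⟨Nat.prime_two⟩
  haveI := hT.set.simple
  set R := (S : Subgroup G) ⊓ uni A with hR
  have hRn : (S : Subgroup G) ≤ normalizer (R : Set G) := Subgroup.le_normalizer_iff.2 fun s hs r hr =>
    mem_inf.2 ⟨mul_mem (mul_mem hs hr.1) (inv_mem hs), hT.uni_conj (hT.set.S_le_normalizer hs) hr.2⟩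
  haveI : (R.subgroupOf (S : Subgroup G)).Normal := (normal_subgroupOf_iff_le_normalizer inf_le_left).2 hRn
  have hne : R.subgroupOf (S : Subgroup G) ≠ ⊥ := fun h => by
    rw [subgroupOf_eq_bot, disjoint_iff, inf_eq_left.2 (inf_le_left : R ≤ (S : Subgroup G))] at h
    have hSA : ∀ s ∈ (S : Subgroup G), s ∈ A := fun s hs => by
      obtain ⟨u, hu, hsu⟩ := hT.split hs
      have h1 : s * u ∈ R := mem_inf.2 ⟨mul_mem hs (hT.set.le hu), hsu⟩
      rw [hR, h, mem_bot] at h1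
      exact (eq_inv_of_mul_eq_one_left h1) ▸ inv_mem hu
    exact hT.set.nonabS ⟨⟨fun x y => Subtype.ext (hT.set.comm (hSA x x.2) (hSA y y.2))⟩⟩
  haveI := S.isPGroup'.isNilpotent
  obtain ⟨c, hc, ho⟩ := LESylow.exists_orderOf_eq (LESylow.dvd_card_of_ne_bot
    (S.2.to_subgroup (R.subgroupOf (S : Subgroup G) ⊓ center _)) (SolvStruct.inf_center_ne_bot hne))
  obtain ⟨hcR, hcc⟩ := mem_inf.1 hc
  set z := ((c : ↥(S : Subgroup G)) : G) with hz
  have hzR : z ∈ R := mem_subgroupOf.1 hcR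
  have hzo : orderOf z = 2 := by rw [hz, Subgroup.orderOf_coe, ho]
  have hz2 : z * z = 1 := by rw [← pow_two, ← hzo, pow_orderOf_eq_one]
  have hzS : ∀ s ∈ (S : Subgroup G), s * z = z * s := fun s hs =>
    congrArg Subtype.val (mem_center_iff.1 hcc ⟨s, hs⟩)
  obtain ⟨v, hv, hv2, hv1, hvz⟩ : ∃ v ∈ R, v * v = 1 ∧ v ≠ 1 ∧ v ≠ z := by
    by_contra hno
    push Not at hno
    obtain ⟨N, hN, hodd, hcomm⟩ := Cfsg.Agent.S0215.result S z hzo hzR.1 fun g hg => by
      obtain ⟨n, hn, he⟩ := hT.set.control {z} (fun x hx => by obtain rfl := hx; exact hzR.1)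
        (g := g) fun x hx => by obtain rfl := hx; exact hg
      rw [he z rfl] at hg ⊢
      exact hno _ (mem_inf.2 ⟨hg, hT.uni_conj hn hzR.2⟩) (by rw [conj_mul, hz2, mul_one, mul_inv_cancel])
        fun e => by rw [conj_eq_one_iff.1 e, orderOf_one] at hzo; exact absurd hzo (by norm_num)
    rcases hN.eq_bot_or_eq_top with hb | ht
    · refine hT.set.cen_ne_top (a := z) (fun e => by rw [e, orderOf_one] at hzo; exact absurd hzo (by norm_num))
        (eq_top_iff.2 fun g _ => mem_centralizer_singleton_iff.2 ?_)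
      have := hcomm g
      rw [hb, mem_bot] at this
      exact (commutatorElement_eq_one_iff_mul_comm.1 this).symm
    · rw [ht, card_top] at hodd
      have := orderOf_dvd_natCard z
      rw [hzo] at this
      exact (Nat.not_even_iff_odd.2 hodd) (even_iff_two_dvd.2 this)
  let V : Subgroup G :=
    { carrier := {1, z, v, z * v}
      one_mem' := by simp
      mul_mem' := fun {x y} hx hy => by
        have hvz' : v * z = z * v := hzS v hv.1
        have e1 : z * (z * v) = v := by rw [← mul_assoc, hz2, one_mul]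
        have e2 : v * (z * v) = z := by rw [← mul_assoc, hvz', mul_assoc, hv2, mul_one]
        have e3 : z * v * z = v := by rw [mul_assoc, hvz', e1]
        have e4 : z * v * v = z := by rw [mul_assoc, hv2, mul_one]
        have e5 : z * v * (z * v) = 1 := by rw [mul_assoc, e2, hz2]
        simp only [Set.mem_insert_iff, Set.mem_singleton_iff] at hx hy ⊢
        rcases hx with rfl | rfl | rfl | rfl <;> rcases hy with rfl | rfl | rfl | rfl <;>
          simp [hz2, hv2, hvz', e1, e2, e3, e4, e5]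
      inv_mem' := fun {x} hx => by
        have hi : ∀ y : G, y * y = 1 → y⁻¹ = y := fun y hy => inv_eq_of_mul_eq_one_right hy
        simp only [Set.mem_insert_iff, Set.mem_singleton_iff] at hx ⊢
        rcases hx with h | h | h | h <;> rw [h] <;> simp [hi _ hz2, hi _ hv2, hzS v hv.1] }
  have hVR : V ≤ R := by
    rintro x (h | h | h | h) <;> rw [h]
    exacts [one_mem _, hzR, hv, mul_mem hzR hv]
  have hsq : ∀ x ∈ V, x * x = 1 := by
    rintro x (h | h | h | h) <;> rw [h]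
    · rw [one_mul]
    · exact hz2
    · exact hv2
    · rw [mul_assoc, ← mul_assoc v, hzS v hv.1, mul_assoc, hv2, mul_one, hz2]
  refine ⟨V, hVR.trans inf_le_left, hVR.trans inf_le_right, hsq,
    fun x hx y hy => Walter4.KindPf.comm_of_sq hsq hx hy, ?_⟩
  have hz1 : z ≠ 1 := fun e => by rw [e, orderOf_one] at hzo; exact absurd hzo (by norm_num)
  have h4 : ({1, z, v, z * v} : Set G).ncard = 4 := by
    rw [Set.ncard_insert_of_notMem, Set.ncard_insert_of_notMem, Set.ncard_pair]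
    · exact fun e => hz1 (mul_right_cancel (e.symm.trans (one_mul v).symm))
    · simp only [Set.mem_insert_iff, Set.mem_singleton_iff, not_or]
      exact ⟨hvz.symm, fun e => hv1 (mul_left_cancel (e.symm.trans (mul_one z).symm))⟩
    · simp only [Set.mem_insert_iff, Set.mem_singleton_iff, not_or]
      refine ⟨hz1.symm, hv1.symm, fun e => hvz ?_⟩
      calc v = z * (z * v) := by rw [← mul_assoc, hz2, one_mul]
        _ = z := by rw [← e, mul_one]
  exact le_of_eq (h4.symm.trans ((Nat.card_coe_set_eq _).symm.trans rfl))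

/-- The elements of a 2-subgroup over `A` split over `A` as those of `S`. -/
theorem split' {Q : Subgroup G} (hQ : IsPGroup 2 Q) (hAQ : A ≤ Q) {y : G} (hy : y ∈ Q) :
    y ∈ cenS A ∧ ∃ u ∈ A, y * u ∈ uni A := by
  obtain ⟨n, hn, hnS⟩ := hT.set.sylow_conj hQ hAQ
  refine ⟨?_, ?_⟩
  · have := hT.cenA_conj (inv_mem hn) (hT.central (hnS y hy))
    rwa [show n⁻¹ * (n * y * n⁻¹) * n⁻¹⁻¹ = y by group] at this
  obtain ⟨u, hu, h⟩ := hT.split (hnS y hy)
  refine ⟨n⁻¹ * u * n⁻¹⁻¹, (hT.set.conj_mem_iff (inv_mem hn)).1 hu, ?_⟩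
  have h1 := hT.uni_conj (inv_mem hn) h
  rwa [show n⁻¹ * (n * y * n⁻¹ * u) * n⁻¹⁻¹ = y * (n⁻¹ * u * n⁻¹⁻¹) by group] at h1

end Cfg3

end Cfsg.Agent.Gold1169
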