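import Cfsg.Agent.Lib.Gold1169.Three.Frame
import Cfsg.Agent.S2603

/-!
Rank three: no moved component is `U₃(4)`.
-/

set_option autoImplicit false
set_option linter.style.haveILetI false
set_option linter.unusedSectionVars false

namespace Cfsg.Agent.Gold1169

open Subgroup
open Cfsg.Agent.Walter4 (cen cenS ocen cor XB pre CA Good mem_pre pre_le)
open Cfsg.Agent.OddDown.CoreSep (q im mem_im)
open scoped commutatorElement

universe u

attribute [local instance] FittingCores.pPrimeCore_normal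

/-- A group like a Sylow 2-subgroup of `U₃(4)`. -/
structure HeisLike (X : Type*) [Group X] : Prop where
  card : Nat.card X = 64
  comm : ∀ x y : X, ⁅x, y⁆ * ⁅x, y⁆ = 1
  sq : ∀ x : X, (x * x) * (x * x) = 1
  small : ∀ x : X, x * x ≠ 1 → {y : X | x * y = y * x}.ncard ≤ 16
  trans : ∀ x y z : X, y * y ≠ 1 → x * y = y * x → y * z = z * y → x * z = z * x

theorem HeisLike.congr {X Y : Type*} [Group X] [Group Y] (e : X ≃* Y) (h : HeisLike Y) : HeisLike X where
  card := by rw [Nat.card_congr e.toEquiv, h.card]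
  comm x y := e.injective (by simpa [map_commutatorElement] using h.comm (e x) (e y))
  sq x := e.injective (by simpa using h.sq (e x))
  small x hx := by
    rw [← Set.ncard_image_of_injective _ e.injective]
    refine le_trans (le_of_eq (congrArg Set.ncard ?_)) (h.small (e x) fun h' => hx (e.injective (by simpa using h')))
    ext y
    constructor
    · rintro ⟨z, hz, rfl⟩
      show e x * e z = e z * e x
      rw [← map_mul, ← map_mul]
      exact congrArg e hz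
    · intro hy
      refine ⟨e.symm y, e.injective ?_, e.apply_symm_apply y⟩
      rw [map_mul, map_mul, e.apply_symm_apply]
      exact hy
  trans x y z hy h1 h2 := e.injective (by
    have := h.trans (e x) (e y) (e z) (fun h' => hy (e.injective (by simpa using h')))
      (by simpa using congrArg e h1) (by simpa using congrArg e h2)
    simpa using this)

theorem heisLike_of_psu {F : Type} [Field F] [Fintype F] (hF : Fintype.card F = (2 ^ 2) ^ 2)
    (P : Sylow 2 (Cfsg.PSU 3 F (2 ^ 2))) : HeisLike ↥(P : Subgroup (Cfsg.PSU 3 F (2 ^ 2))) := by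
  classical
  obtain ⟨_, σ, hi, hne, hσ, hq⟩ := SU3Sylow.setup (by norm_num : 1 ≤ 2) hF
  obtain ⟨f⟩ := SU3Sylow.sylow_PSU_equiv hne (by norm_num) hσ hq P
  refine HeisLike.congr f ⟨?_, fun x y => ?_, fun x => ?_, fun x hx => ?_, fun x y z hy h1 h2 => ?_⟩
  · rw [SU3Sylow.Heis.card_eq hne hq]
    norm_num
  · rw [SU3Sylow.Heis.mul_self_eq_one_iff, commutatorElement_def]
    simp only [SU3Sylow.Heis.mul_a, SU3Sylow.Heis.inv_a]
    rw [add_assoc, add_assoc, ← add_assoc y.a, add_comm y.a x.a, add_assoc, CharTwo.add_self_eq_zero,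
      add_zero, CharTwo.add_self_eq_zero]
  · rw [SU3Sylow.Heis.mul_self_eq_one_iff]
    simp only [SU3Sylow.Heis.mul_a]
    exact CharTwo.add_self_eq_zero _
  · rw [Ne, SU3Sylow.Heis.mul_self_eq_one_iff] at hx
    set m : F → SU3Sylow.Heis σ := fun a => (SU3Sylow.Heis.exists_mk (σ := σ) hne a).choose with hm
    have hma : ∀ a, (m a).a = a := fun a => (SU3Sylow.Heis.exists_mk (σ := σ) hne a).choose_spec
    have hfix : ∀ y ∈ {y : SU3Sylow.Heis σ | x * y = y * x},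
        y.a / x.a ∈ Hermitian.fixed σ ∧ y.b + (m y.a).b ∈ Hermitian.fixed σ := by
      intro y hy
      refine ⟨?_, ?_⟩
      · rw [Hermitian.mem_fixed, map_div₀, div_eq_div_iff ((map_ne_zero σ).2 hx) hx]
        have h1 : σ x.a * y.a = σ y.a * x.a := (SU3Sylow.Heis.comm_iff x y).1 hy
        linear_combination -h1
      · have h1 := y.eq
        have h2 := (m y.a).eq
        rw [hma] at h2
        rw [Hermitian.mem_fixed, map_add, ← CharTwo.add_eq_zero]
        linear_combination h1 + h2 - y.a * σ y.a * (CharTwo.two_eq_zero (R := F))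
    let g : {y : SU3Sylow.Heis σ | x * y = y * x} → Hermitian.fixed σ × Hermitian.fixed σ :=
      fun y => (⟨_, (hfix y y.2).1⟩, ⟨_, (hfix y y.2).2⟩)
    have hg : Function.Injective g := fun y z e => by
      have e1 : (y : SU3Sylow.Heis σ).a / x.a = (z : SU3Sylow.Heis σ).a / x.a :=
        congrArg Subtype.val (congrArg Prod.fst e)
      have e2 : (y : SU3Sylow.Heis σ).b + (m (y : SU3Sylow.Heis σ).a).b =
          (z : SU3Sylow.Heis σ).b + (m (z : SU3Sylow.Heis σ).a).b :=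
        congrArg Subtype.val (congrArg Prod.snd e)
      have ha : (y : SU3Sylow.Heis σ).a = (z : SU3Sylow.Heis σ).a := (div_left_inj' hx).1 e1
      rw [ha] at e2
      exact Subtype.ext (SU3Sylow.Heis.ext ha (add_right_cancel e2))
    rw [← Nat.card_coe_set_eq]
    refine (Nat.card_le_card_of_injective g hg).trans ?_
    rw [Nat.card_prod, hq]
    norm_num
  · rw [Ne, SU3Sylow.Heis.mul_self_eq_one_iff] at hy
    rw [SU3Sylow.Heis.comm_iff] at h1 h2 ⊢
    refine mul_left_cancel₀ hy ?_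
    linear_combination z.a * h1 + x.a * h2

/-- Two involutions of `Multiplicative (ZMod 4)` are equal. -/
theorem zmod_four_eq : ∀ g h : Multiplicative (ZMod (2 * 2)), g * g = 1 → g ≠ 1 → h * h = 1 → h ≠ 1 → g = h := by
  decide

variable {G : Type u} [Group G] [Finite G]

/-- A subgroup in which the complement of `C` has all quotients in `C` is at most twice `C`. -/
theorem card_le_two_mul {X C : Subgroup G}
    (h : ∀ x ∈ X, ∀ y ∈ X, x ∉ C → y ∉ C → x⁻¹ * y ∈ C) :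
    Nat.card X ≤ 2 * Nat.card (X ⊓ C : Subgroup G) := by
  have key : ∀ Y : Subgroup G, Nat.card Y = (Y : Set G).ncard := fun Y => by
    rw [← Nat.card_coe_set_eq, SetLike.coe_sort_coe]
  rw [key, key]
  by_cases hX : X ≤ C
  · rw [inf_eq_left.2 hX]
    omega
  obtain ⟨x, hx, hxC⟩ := SetLike.not_le_iff_exists.1 hX
  have hsub : (X : Set G) ⊆ ((X ⊓ C : Subgroup G) : Set G) ∪
      (fun c => x * c) '' ((X ⊓ C : Subgroup G) : Set G) := fun y hy => by
    by_cases hyC : y ∈ C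
    · exact Or.inl ⟨hy, hyC⟩
    · exact Or.inr ⟨x⁻¹ * y, mem_inf.2 ⟨mul_mem (inv_mem hx) hy, h x hx y hy hxC hyC⟩, mul_inv_cancel_left x y⟩
  refine (Set.ncard_le_ncard hsub).trans ((Set.ncard_union_le _ _).trans ?_)
  have := Set.ncard_image_le (f := fun c => x * c) (s := ((X ⊓ C : Subgroup G) : Set G))
  omega

/-- With all commutators of `v` in `{1, a}` the centraliser of `v` has index at most two. -/
theorem card_cent_two {X : Subgroup G} {v a : G} (hv : ∀ y ∈ X, ⁅v, y⁆ = 1 ∨ ⁅v, y⁆ = a) :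
    Nat.card X ≤ 2 * Nat.card (X ⊓ centralizer {v} : Subgroup G) := by
  refine card_le_two_mul fun x hx y hy hxC hyC => mem_centralizer_singleton_iff.2 ?_
  have hc : ∀ w ∈ X, w ∉ centralizer ({v} : Set G) → v * w * v⁻¹ = a * w := fun w hw hwC => by
    rcases hv w hw with h | h
    · exact absurd (mem_centralizer_singleton_iff.2 (commutatorElement_eq_one_iff_mul_comm.1 h).symm) hwC
    · rw [← h, commutatorElement_def, inv_mul_cancel_right]
  have h1 := hc x hx hxC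
  have h2 := hc y hy hyC
  have e : v * (x⁻¹ * y) * v⁻¹ = x⁻¹ * y := by
    calc v * (x⁻¹ * y) * v⁻¹ = (v * x * v⁻¹)⁻¹ * (v * y * v⁻¹) := by group
      _ = x⁻¹ * y := by rw [h1, h2]; group
  rw [mul_inv_eq_iff_eq_mul] at e
  exact e.symm

theorem ncard_cent {X : Subgroup G} {v : G} (hv : v ∈ X) :
    Nat.card (X ⊓ centralizer {v} : Subgroup G) = {y : X | (⟨v, hv⟩ : X) * y = y * ⟨v, hv⟩}.ncard := by
  rw [← Nat.card_coe_set_eq]
  exact Nat.card_congr
    { toFun := fun y => ⟨⟨y, y.2.1⟩, Subtype.ext (mem_centralizer_singleton_iff.1 y.2.2).symm⟩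
      invFun := fun y => ⟨(y : X), (y : X).2, mem_centralizer_singleton_iff.2 (congrArg Subtype.val y.2).symm⟩
      left_inv := fun y => rfl
      right_inv := fun y => rfl }

namespace Cfg3

variable {S : Sylow 2 G} {A : Subgroup G} (hT : Cfg3 S A)
include hT

theorem heis {a : G} (ha : a ∈ A) (ha1 : a ≠ 1) {L : Subgroup (XB (zpowers a))}
    (hLm : Moved A (zpowers a) L) (hU : UType ↥L) :
    HeisLike ↥((S : Subgroup G) ⊓ pre (zpowers a) L) := by
  haveI : Fact (Nat.Prime 2) := ⟨Nat.prime_two⟩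
  obtain ⟨-, -, -, T, -, ⟨f⟩⟩ := hT.frame ha ha1 hLm
  obtain ⟨F, _, _, hF, ⟨e⟩⟩ := hU
  refine HeisLike.congr (f.trans ((T : Subgroup ↥L).equivMapOfInjective e.toMonoidHom e.injective)) ?_
  exact heisLike_of_psu hF (T.mapSurjective (f := e.toMonoidHom) e.surjective)

/-- Conjugation by an element of `S` on a moved component. -/
noncomputable def act {a : G} (ha : a ∈ A) (ha1 : a ≠ 1) {L : Subgroup (XB (zpowers a))}
    (hLm : Moved A (zpowers a) L) : ↥(S : Subgroup G) →* MulAut ↥L :=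
  (L.normalizerMonoidHom).comp (MonoidHom.mk'
    (fun s => (⟨_, hT.S_normalizes ha ha1 hLm s.2⟩ : ↥(normalizer (L : Set (XB (zpowers a))))))
    fun x y => Subtype.ext (map_mul (q (cenS (zpowers a)))
      ⟨x, hT.S_le_cenS ha x.2⟩ ⟨y, hT.S_le_cenS ha y.2⟩))

theorem act_apply {a : G} (ha : a ∈ A) (ha1 : a ≠ 1) {L : Subgroup (XB (zpowers a))}
    (hLm : Moved A (zpowers a) L) (s : ↥(S : Subgroup G)) (l : ↥L) :
    ((hT.act ha ha1 hLm s l : ↥L) : XB (zpowers a)) =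
      q (cenS (zpowers a)) ⟨s, hT.S_le_cenS ha s.2⟩ * l *
        (q (cenS (zpowers a)) ⟨s, hT.S_le_cenS ha s.2⟩)⁻¹ := rfl

/-- No moved component at an involution of `A` is `U₃(4)`. -/
theorem no_utype {a : G} (ha : a ∈ A) (ha1 : a ≠ 1) {L : Subgroup (XB (zpowers a))}
    (hLm : Moved A (zpowers a) L) : ¬ UType ↥L := by
  classical
  intro hUL
  haveI : Fact (Nat.Prime 2) := ⟨Nat.prime_two⟩
  obtain ⟨hA4, haL, hdecA, -⟩ := hT.part ha ha1 hLm
  obtain ⟨hZ, hinvA, -, -⟩ := hT.frame ha ha1 hLm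
  -- a second involution whose component contains `a`
  obtain ⟨u₁, hu₁, hu₁1⟩ : ∃ u ∈ A ⊓ pre (zpowers a) L, u ≠ 1 := by
    refine (A ⊓ pre (zpowers a) L).bot_or_exists_ne_one.resolve_left fun h => ?_
    rw [h, card_bot] at hA4
    omega
  obtain ⟨n, hn, hna⟩ := hT.trans hu₁.1 hu₁1 ha ha1
  set b := n * a * n⁻¹ with hb
  obtain ⟨M, hMm, ⟨eM⟩, hMpre, -⟩ := hT.transport hn (B' := zpowers b) (cenS_zpowers_conj) hLm
  have hbA : b ∈ A := (hT.set.conj_mem_iff hn).1 ha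
  have hb1 : b ≠ 1 := fun e => ha1 (conj_eq_one_iff.1 e)
  have haM : a ∈ pre (zpowers b) M := hna ▸ (hMpre u₁).1 hu₁.2
  obtain ⟨hB4, hbM, -, -⟩ := hT.part hbA hb1 hMm
  obtain ⟨-, hinvB, -, -⟩ := hT.frame hbA hb1 hMm
  have hTa := hT.heis ha ha1 hLm hUL
  have hTb := hT.heis hbA hb1 hMm (hUL.congr eM.symm)
  set Ta := (S : Subgroup G) ⊓ pre (zpowers a) L with hTadef
  set Tb := (S : Subgroup G) ⊓ pre (zpowers b) M with hTbdef
  set Ra := (S : Subgroup G) ⊓ fix1 A a with hRadef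
  have hAS := hT.set.le
  have hcenA : ∀ u ∈ A, ∀ s ∈ (S : Subgroup G), Commute s u := fun u hu s hs =>
    (mem_centralizer_iff.1 (hT.central hs) u hu).symm
  have hTaRa : ∀ x ∈ Ta, x ∈ fix1 A a → x = 1 := by
    intro x hx hxf
    obtain ⟨hxC, hxL⟩ := mem_pre.1 hx.2
    obtain ⟨_, hxc⟩ := mem_pre.1 ((hT.mem_fix1' ha ha1 hLm).1 hxf).2
    refine eq_one_of_q S.2 hx.1 hxC (congrArg Subtype.val (?_ : (⟨_, hxL⟩ : ↥L) = 1))
    rw [← mem_bot, ← hZ]
    exact mem_center_iff.2 fun l => Subtype.ext (mem_centralizer_iff.1 hxc l l.2)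
  have hcommTR : ∀ t ∈ Ta, ∀ r ∈ Ra, t * r = r * t := by
    intro t ht r hr
    have h1 : t * r * t⁻¹ * r⁻¹ ∈ Ta := by
      rw [show t * r * t⁻¹ * r⁻¹ = t * (r * t⁻¹ * r⁻¹) by group]
      exact mem_inf.2 ⟨mul_mem ht.1 (mul_mem (mul_mem hr.1 (inv_mem ht.1)) (inv_mem hr.1)),
        mul_mem ht.2 (hT.conj_mem_pre ha ha1 hLm hr.1 (inv_mem ht.2))⟩
    have h2 : t * r * t⁻¹ * r⁻¹ ∈ fix1 A a :=
      mul_mem (hT.conj_mem_fix1 ha ha1 ht.1 hr.2) (inv_mem hr.2)
    have h3 := hTaRa _ h1 h2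
    rw [mul_inv_eq_one, mul_inv_eq_iff_eq_mul] at h3
    exact h3
  have haR : a ∈ Ra := ⟨hAS ha, (hT.mem_fix1' ha ha1 hLm).2
    ⟨hT.set.le_cenS le_rfl ha, (le_CA (hT.set.loc_zpowers ha ha1) (zpowers_le.2 ha) L (mem_zpowers a)).2⟩⟩
  have hARa : ∀ x ∈ A, x ∈ fix1 A a → x ∈ zpowers a := fun x hx h => hT.mem_zpowers_of_fix1 ha ha1 hx h
  -- the elements acting as inner automorphisms
  have hnTR : Ra ≤ normalizer (Ta : Set G) := fun r hr => centralizer_le_normalizer _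
    (mem_centralizer_iff.2 fun t ht => hcommTR t ht r hr)
  set D := Ta ⊔ Ra with hDdef
  have hDS : D ≤ (S : Subgroup G) := sup_le inf_le_left inf_le_left
  have hdecD : ∀ d ∈ D, ∃ t ∈ Ta, t⁻¹ * d ∈ Ra := fun d hd => by
    obtain ⟨t, ht, r, hr, rfl⟩ := (SolvBasic.mem_sup_iff_of_le_normalizer hnTR).1 hd
    exact ⟨t, ht, by rwa [inv_mul_cancel_left]⟩
  have hAD : A ≤ D := fun x hx => by
    obtain ⟨w, hw, rfl | rfl⟩ := hdecA x hx
    · exact mem_sup_left ⟨hAS hw.1, hw.2⟩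
    · exact mul_mem (mem_sup_left ⟨hAS hw.1, hw.2⟩) (mem_sup_right haR)
  obtain ⟨F, _, _, hF, ⟨eL⟩⟩ := hUL
  obtain ⟨φ, -, -, hφ⟩ := Cfsg.Agent.S2603.result (p := 2) (f := 2) (q := 2 ^ 2) (n := 3) (by norm_num) rfl hF
    le_rfl (by norm_num)
  have hφinj : Function.Injective φ := by
    rw [← MonoidHom.ker_eq_bot_iff]
    exact eq_bot_of_card_eq _ (by rw [hφ]; norm_num)
  set ψ : ↥(S : Subgroup G) →* Multiplicative (ZMod (2 * 2)) :=
    φ.comp ((QuotientGroup.mk' (Cfsg.Inn (Cfsg.PSU 3 F (2 ^ 2)))).comp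
      ((MulAut.congr eL).toMonoidHom.comp (hT.act ha ha1 hLm))) with hψ
  have hψD : ∀ s : ↥(S : Subgroup G), ψ s = 1 → (s : G) ∈ D := by
    intro s hs
    have h1 : MulAut.congr eL (hT.act ha ha1 hLm s) ∈ Cfsg.Inn (Cfsg.PSU 3 F (2 ^ 2)) :=
      (QuotientGroup.eq_one_iff _).1 (hφinj (hs.trans (map_one φ).symm))
    obtain ⟨g, hg⟩ := h1
    obtain ⟨t, ht, htr⟩ := hT.inner_mem ha ha1 hLm s.2 (k := eL.symm g) fun l hl => by
      have h2 := DFunLike.congr_fun hg (eL ⟨l, hl⟩)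
      rw [MulAut.conj_apply] at h2
      have h3 : eL (hT.act ha ha1 hLm s ⟨l, hl⟩) = g * eL ⟨l, hl⟩ * g⁻¹ := by
        rw [h2]
        show _ = eL (hT.act ha ha1 hLm s (eL.symm (eL ⟨l, hl⟩)))
        rw [eL.symm_apply_apply]
      have h4 := congrArg (fun y : ↥L => (y : XB (zpowers a))) (congrArg eL.symm h3)
      simp only [eL.symm_apply_apply, map_mul, map_inv, Subgroup.coe_mul, Subgroup.coe_inv] at h4
      rw [← h4]
      exact (hT.act_apply ha ha1 hLm s ⟨l, hl⟩).symm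
    rw [← mul_inv_cancel_left t (s : G)]
    exact mul_mem (mem_sup_left ht) (mem_sup_right (mem_inf.2 ⟨mul_mem (inv_mem ht.1) s.2, htr⟩))
  have hDψ : ∀ d (hd : d ∈ D), ψ ⟨d, hDS hd⟩ = 1 := by
    intro d hd
    obtain ⟨t, ht, hr⟩ := hdecD d hd
    have hmem : MulAut.congr eL (hT.act ha ha1 hLm ⟨d, hDS hd⟩) ∈ Cfsg.Inn (Cfsg.PSU 3 F (2 ^ 2)) := by
      obtain ⟨htC, htL⟩ := mem_pre.1 ht.2
      refine ⟨eL ⟨_, htL⟩, MulEquiv.ext fun y => ?_⟩
      obtain ⟨l, rfl⟩ := eL.surjective y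
      show eL ⟨_, htL⟩ * eL l * (eL ⟨_, htL⟩)⁻¹ = eL (hT.act ha ha1 hLm ⟨d, hDS hd⟩ (eL.symm (eL l)))
      rw [eL.symm_apply_apply, ← map_inv, ← map_mul, ← map_mul]
      refine congrArg eL (Subtype.ext ?_)
      rw [hT.act_apply ha ha1 hLm]
      obtain ⟨hrC, hrc⟩ := mem_pre.1 ((hT.mem_fix1' ha ha1 hLm).1 hr.2).2
      have hq : q (cenS (zpowers a)) ⟨d, hT.S_le_cenS ha (hDS hd)⟩ =
          q (cenS (zpowers a)) ⟨t, htC⟩ * q (cenS (zpowers a)) ⟨t⁻¹ * d, hrC⟩ := by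
        rw [← map_mul]
        exact congrArg _ (Subtype.ext (mul_inv_cancel_left t d).symm)
      have hl := mem_centralizer_iff.1 hrc l l.2
      rw [hq, Subgroup.coe_mul, Subgroup.coe_mul, Subgroup.coe_inv]
      set α := q (cenS (zpowers a)) ⟨t, htC⟩
      set β := q (cenS (zpowers a)) ⟨t⁻¹ * d, hrC⟩
      calc α * l * α⁻¹ = α * (l * β) * β⁻¹ * α⁻¹ := by group
        _ = α * β * l * (α * β)⁻¹ := by rw [hl]; group
    exact (congrArg φ ((QuotientGroup.eq_one_iff _).2 hmem)).trans (map_one φ)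
  -- squares and commutators in `Tb`
  have hsqB : ∀ x ∈ Tb, x * x ∈ A := fun x hx =>
    hinvB _ (mul_mem hx hx) (congrArg Subtype.val (hTb.sq ⟨x, hx⟩))
  have hcomB : ∀ x ∈ Tb, ∀ y ∈ Tb, ⁅x, y⁆ ∈ A ∧ ⁅x, y⁆ ∈ Tb := fun x hx y hy =>
    have hm : ⁅x, y⁆ ∈ Tb := mul_mem (mul_mem (mul_mem hx hy) (inv_mem hx)) (inv_mem hy)
    ⟨hinvB _ hm (congrArg Subtype.val (hTb.comm ⟨x, hx⟩ ⟨y, hy⟩)), hm⟩
  set D0 := Tb ⊓ D with hD0
  have hD0card : 32 ≤ Nat.card D0 := by
    have hcard : Nat.card ↥Tb = 64 := hTb.card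
    have h2 : Nat.card Tb ≤ 2 * Nat.card (Tb ⊓ D : Subgroup G) := by
      refine card_le_two_mul fun x hx y hy hxD hyD => ?_
      have hsq : ∀ w ∈ Tb, ∀ hw : w ∈ (S : Subgroup G), ψ ⟨w, hw⟩ * ψ ⟨w, hw⟩ = 1 := fun w hw hwS => by
        rw [← map_mul]
        exact hDψ _ (hAD (hsqB w hw))
      have e := zmod_four_eq _ _ (hsq x hx hx.1) (fun h => hxD (hψD _ h)) (hsq y hy hy.1)
        (fun h => hyD (hψD _ h))
      exact hψD (⟨x, hx.1⟩⁻¹ * ⟨y, hy.1⟩) (by rw [map_mul, map_inv, e, inv_mul_cancel])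
    rw [hD0]
    omega
  -- an element of `D0` centralising the component up to `A` is an involution
  have hkey : ∀ v ∈ D0, ∀ w ∈ A, v * w ∈ Ra → v * v = 1 := by
    intro v hv w hw hvw
    by_contra hvv
    have hval : ∀ y ∈ Tb, ⁅v, y⁆ = 1 ∨ ⁅v, y⁆ = a := fun y hy => by
      obtain ⟨hcA, hcT⟩ := hcomB v hv.1 y hy
      have e : ⁅v, y⁆ = (v * w) * (y * (v * w)⁻¹ * y⁻¹) := by
        rw [commutatorElement_def, mul_inv_rev, show y * (w⁻¹ * v⁻¹) = y * w⁻¹ * v⁻¹ by group,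
          ((hcenA w hw y hy.1).inv_right).eq]
        group
      have hfx : ⁅v, y⁆ ∈ fix1 A a := by
        rw [e]
        exact mul_mem hvw.2 (hT.conj_mem_fix1 ha ha1 hy.1 (inv_mem hvw.2))
      exact (hT.mem_zpowers_iff_eq ha).1 (hARa _ hcA hfx)
    have h1 := card_cent_two hval
    rw [ncard_cent hv.1] at h1
    have hcard : Nat.card ↥Tb = 64 := hTb.card
    have h3 := hTb.small ⟨v, hv.1⟩ fun h => hvv (congrArg Subtype.val h)
    omega
  set D1 := D0 ⊔ A with hD1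
  have hD1card : 64 ≤ Nat.card D1 := by
    have hlt : ¬ A ≤ D0 := fun h => hbM (h hbA).1.2
    obtain ⟨k, hk⟩ := card_dvd_of_le (le_sup_left : D0 ≤ D1)
    have hne : Nat.card D1 ≠ Nat.card D0 := fun e =>
      hlt (le_sup_right.trans (eq_of_le_of_card_ge le_sup_left e.le).ge)
    rw [hk] at hne ⊢
    rcases k with _ | _ | k
    · simp only [Nat.mul_zero] at hk
      exact absurd hk Nat.card_pos.ne'
    · exact absurd (Nat.mul_one _) hne
    · nlinarith
  have hD1D : D1 ≤ D := sup_le inf_le_right hAD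
  have hdec1 : ∀ d ∈ D1, ∃ v ∈ D0, ∃ w ∈ A, d = v * w := fun d hd => by
    obtain ⟨v, hv, w, hw, e⟩ := (SolvBasic.mem_sup_iff_of_le_normalizer (show A ≤ normalizer (D0 : Set G) from
      fun w hw => centralizer_le_normalizer _ (mem_centralizer_iff.2 fun v hv =>
        (hcenA w hw v hv.1.1).eq))).1 hd
    exact ⟨v, hv, w, hw, e⟩
  -- the projection to the component
  choose θ hθT hθR using hdecD
  have huniq : ∀ d (hd : d ∈ D) t, t ∈ Ta → t⁻¹ * d ∈ Ra → θ d hd = t := by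
    intro d hd t ht htr
    refine (inv_mul_eq_one.1 (hTaRa _ (mul_mem (inv_mem (hθT d hd)) ht) ?_))
    rw [show (θ d hd)⁻¹ * t = ((θ d hd)⁻¹ * d) * (t⁻¹ * d)⁻¹ by group]
    exact mul_mem (hθR d hd).2 (inv_mem htr.2)
  let Θ : ↥D1 →* G := MonoidHom.mk' (fun d => θ d (hD1D d.2)) fun x y => huniq _ _ _
    (mul_mem (hθT _ _) (hθT _ _)) (by
      show (θ x (hD1D x.2) * θ y (hD1D y.2))⁻¹ * ((x : G) * y) ∈ Ra
      rw [show (θ x (hD1D x.2) * θ y (hD1D y.2))⁻¹ * ((x : G) * y) =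
        (θ y (hD1D y.2))⁻¹ * (((θ x (hD1D x.2))⁻¹ * x) * θ y (hD1D y.2)) * ((θ y (hD1D y.2))⁻¹ * y) by group,
        ← hcommTR _ (hθT _ _) _ (hθR _ _), inv_mul_cancel_left]
      exact mul_mem (hθR _ _) (hθR _ _))
  have hΘT : ∀ d, Θ d ∈ Ta := fun d => hθT _ _
  have hΘker : Nat.card Θ.ker ≤ 2 := by
    refine le_trans (Nat.card_le_card_of_injective (fun d : Θ.ker => (⟨((d : ↥D1) : G), ?_⟩ : zpowers a))
      fun x y e => Subtype.ext (Subtype.ext (congrArg (fun z : zpowers a => (z : G)) e))) ?_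
    · have h1 : θ _ (hD1D (d : ↥D1).2) = 1 := d.2
      have h2 := hθR _ (hD1D (d : ↥D1).2)
      rw [h1, inv_one, one_mul] at h2
      obtain ⟨v, hv, w, hw, e⟩ := hdec1 _ (d : ↥D1).2
      refine hARa _ ?_ h2.2
      rw [e]
      exact mul_mem (hinvB v hv.1 (hkey v hv w hw (e ▸ h2))) hw
    · rw [Nat.card_zpowers, hT.set.orderOf_eq ha ha1]
  set E := Θ.range with hE
  have hEcard : 32 ≤ Nat.card E := by
    have h1 := Θ.ker.card_mul_index
    rw [index_ker] at h1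
    have h2 : Nat.card Θ.ker * Nat.card Θ.range ≤ 2 * Nat.card Θ.range := Nat.mul_le_mul_right _ hΘker
    rw [hE]
    omega
  -- the commutators of the image lie in a line
  obtain ⟨u₀, hu₀, hu₀a⟩ : ∃ u ∈ A ⊓ pre (zpowers b) M, u ∉ zpowers a := by
    by_contra h
    push Not at h
    have := card_le_of_le (show A ⊓ pre (zpowers b) M ≤ zpowers a from h)
    rw [Nat.card_zpowers, hT.set.orderOf_eq ha ha1, hB4] at this
    omega
  have hUb : ∀ c ∈ A ⊓ pre (zpowers b) M, c = 1 ∨ c = a ∨ c = u₀ ∨ c = u₀ * a := by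
    have hu₀1 : u₀ ≠ 1 ∧ u₀ ≠ a := ⟨fun e => hu₀a (e ▸ one_mem _), fun e => hu₀a (e ▸ mem_zpowers a)⟩
    have hsub : ({1, a, u₀, u₀ * a} : Set G) ⊆ (A ⊓ pre (zpowers b) M : Subgroup G) := by
      rintro x (rfl | rfl | rfl | rfl)
      exacts [one_mem _, ⟨ha, haM⟩, hu₀, mul_mem hu₀ ⟨ha, haM⟩]
    have h4 : ({1, a, u₀, u₀ * a} : Set G).ncard = 4 := by
      rw [Set.ncard_insert_of_notMem, Set.ncard_insert_of_notMem, Set.ncard_pair]
      · exact fun e => ha1 (mul_left_cancel (e.symm.trans (mul_one u₀).symm))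
      · simp only [Set.mem_insert_iff, Set.mem_singleton_iff, not_or]
        exact ⟨hu₀1.2.symm, fun e => hu₀1.1 (mul_right_cancel (e.symm.trans (one_mul a).symm))⟩
      · simp only [Set.mem_insert_iff, Set.mem_singleton_iff, not_or]
        refine ⟨ha1.symm, hu₀1.1.symm, fun e => hu₀1.2 ?_⟩
        rw [← hT.set.inv_eq ha]
        exact eq_inv_of_mul_eq_one_left e.symm
    intro c hc
    have := (Set.eq_of_subset_of_ncard_le hsub (by
      rw [← Nat.card_coe_set_eq, SetLike.coe_sort_coe, hB4, h4])).ge hc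
    simpa using this
  obtain ⟨w₀, hw₀, hu₀d⟩ : ∃ w ∈ A ⊓ pre (zpowers a) L, u₀ = w ∨ u₀ = w * a := hdecA u₀ hu₀.1
  have hcomE : ∀ x ∈ E, ∀ y ∈ E, ⁅x, y⁆ = 1 ∨ ⁅x, y⁆ = w₀ := by
    rintro _ ⟨d, rfl⟩ _ ⟨d', rfl⟩
    rw [← map_commutatorElement]
    obtain ⟨v, hv, w, hw, e⟩ := hdec1 _ d.2
    obtain ⟨v', hv', w', hw', e'⟩ := hdec1 _ d'.2
    have hc : ((⁅d, d'⁆ : ↥D1) : G) = ⁅v, v'⁆ := by
      show ⁅(d : G), (d' : G)⁆ = _
      have k1 : ∀ z ∈ (S : Subgroup G), w * z * w⁻¹ = z := fun z hz => by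
        rw [← (hcenA w hw z hz).eq, mul_inv_cancel_right]
      have k2 : ∀ z ∈ (S : Subgroup G), w' * z * w'⁻¹ = z := fun z hz => by
        rw [← (hcenA w' hw' z hz).eq, mul_inv_cancel_right]
      rw [e, e', commutatorElement_def, commutatorElement_def]
      calc v * w * (v' * w') * (v * w)⁻¹ * (v' * w')⁻¹
          = v * (w * (v' * w') * w⁻¹) * (v⁻¹ * w'⁻¹) * v'⁻¹ := by group
        _ = v * v' * (w' * v⁻¹ * w'⁻¹) * v'⁻¹ := by
            rw [k1 _ (mul_mem hv'.1.1 (hAS hw'))]; group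
        _ = v * v' * v⁻¹ * v'⁻¹ := by rw [k2 _ (inv_mem hv.1.1)]
    obtain ⟨hcA, hcT⟩ := hcomB v hv.1 v' hv'.1
    have hθc : Θ ⁅d, d'⁆ = θ _ (hAD hcA) := huniq _ _ _ (hθT _ _) (by
      rw [show ((⁅d, d'⁆ : ↥D1) : G) = ⁅v, v'⁆ from hc]
      exact hθR _ _)
    rw [hθc]
    have hw0T : w₀ ∈ Ta := ⟨hAS hw₀.1, hw₀.2⟩
    rcases hUb _ ⟨hcA, hcT.2⟩ with h | h | h | h
    · exact Or.inl (huniq _ _ _ (one_mem _) (by rw [h, inv_one, one_mul]; exact one_mem _))
    · exact Or.inl (huniq _ _ _ (one_mem _) (by rw [h, inv_one, one_mul]; exact haR))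
    · refine Or.inr (huniq _ _ _ hw0T ?_)
      rw [h]
      rcases hu₀d with hd | hd <;> rw [hd]
      · rw [inv_mul_cancel]; exact one_mem _
      · rw [inv_mul_cancel_left]; exact haR
    · refine Or.inr (huniq _ _ _ hw0T ?_)
      rw [h]
      rcases hu₀d with hd | hd <;> rw [hd]
      · rw [inv_mul_cancel_left]; exact haR
      · rw [mul_assoc, inv_mul_cancel_left]; exact mul_mem haR haR
  have hETa : E ≤ Ta := by rintro _ ⟨d, rfl⟩; exact hΘT d
  have hES : E ≤ (S : Subgroup G) := hETa.trans inf_le_left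
  have hsq4 : ∀ X : Subgroup G, X ≤ E → 4 < Nat.card X → ∃ z ∈ X, z * z ≠ 1 := by
    intro X hX hX4
    by_contra h
    push Not at h
    have := card_le_of_le (show X ≤ A ⊓ pre (zpowers a) L from fun z hz =>
      ⟨hinvA z (hETa (hX hz)) (h z hz), (hETa (hX hz)).2⟩)
    omega
  have hab : ∀ x ∈ E, ∀ y ∈ E, x * y = y * x := by
    intro x hx y hy
    by_cases hxx : x * x = 1
    · exact ((hcenA x (hinvA x (hETa hx) hxx) y (hES hy)).eq).symm
    have h1 := card_cent_two (X := E) (hcomE x hx)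
    have h2 := card_cent_two (X := E ⊓ centralizer {x}) (v := y) (a := w₀)
      (fun z hz => hcomE y hy z hz.1)
    obtain ⟨z, hz, hzz⟩ := hsq4 (E ⊓ centralizer {x} ⊓ centralizer {y}) (inf_le_left.trans inf_le_left) (by omega)
    exact congrArg Subtype.val (hTa.trans ⟨x, hETa hx⟩ ⟨z, hETa hz.1.1⟩ ⟨y, hETa hy⟩
      (fun h => hzz (congrArg Subtype.val h))
      (Subtype.ext (mem_centralizer_singleton_iff.1 hz.1.2).symm)
      (Subtype.ext (mem_centralizer_singleton_iff.1 hz.2)))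
  obtain ⟨x, hx, hxx⟩ := hsq4 E le_rfl (by omega)
  have h5 : E ≤ Ta ⊓ centralizer {x} := fun y hy =>
    ⟨hETa hy, mem_centralizer_singleton_iff.2 (hab y hy x hx)⟩
  have h6 := card_le_of_le h5
  rw [ncard_cent (hETa hx)] at h6
  have h7 := hTa.small ⟨x, hETa hx⟩ fun h => hxx (congrArg Subtype.val h)
  omega

end Cfg3

end Cfsg.Agent.Gold1169
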